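import Mathlib

/-!
# The arithmetic endgame
-/

set_option autoImplicit false

namespace CfsgLib.Char.SelfCentThree

theorem three_F_ne {f v : ℤ} (hf : 4 ≤ f) : 3 * (f * (f + 1)) - v * (2 * f + 1) ≠ 0 := by
  intro h
  have h3 : (2 * f + 1) ∣ 3 :=
    ⟨3 * (2 * f + 1) - 4 * v, by linear_combination (-4) * h⟩
  have := Int.le_of_dvd (by norm_num) h3
  omega

theorem arith_central {c f v K N m : ℤ} (hc : 4 ≤ c) (hf : 4 ≤ f) (hv : 1 ≤ v)
    (h1 : K * v ^ 2 = 3 * c * (f * (f + 1)))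
    (h2 : 3 * N * v ^ 2 = c ^ 2 * (3 * (f * (f + 1)) - v * (2 * f + 1)))
    (hK : 3 * c + m ≤ K) (hN : 2 * N ≤ c * (m + 1)) (hm : m + 1 ≤ c) :
    c = 4 ∧ f = 4 ∧ v = 4 := by
  have hv2 : 0 < v ^ 2 := by positivity
  have hc0 : 0 < c := by linarith
  obtain ⟨b, hb⟩ : ∃ b, b = 2 * f + 1 := ⟨_, rfl⟩
  have hF : 4 * (f * (f + 1)) = b ^ 2 - 1 := by rw [hb]; ring
  rw [← hb] at h2
  have e1 : c * (2 * (c * (3 * (f * (f + 1)) - v * b))) ≤ c * (3 * (m + 1) * v ^ 2) := by nlinarith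
  have e2 := le_of_mul_le_mul_left e1 hc0
  have e3 : c * (2 * (3 * (f * (f + 1)) - v * b)) ≤ c * (3 * v ^ 2) := by
    nlinarith [mul_le_mul_of_nonneg_right hm hv2.le]
  have e4 := le_of_mul_le_mul_left e3 hc0
  have e5 : (3 * c + m) * v ^ 2 ≤ 3 * c * (f * (f + 1)) := by
    rw [← h1]; exact mul_le_mul_of_nonneg_right hK hv2.le
  have e6 : c * (9 * v ^ 2 - 3 * (f * (f + 1)) - 2 * v * b) ≤ 3 * v ^ 2 := by nlinarith
  have q1 : 3 * b ^ 2 - 4 * v * b - 6 * v ^ 2 ≤ 3 := by nlinarith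
  have q2 : c * (36 * v ^ 2 - 3 * b ^ 2 + 3 - 8 * v * b) ≤ 12 * v ^ 2 := by nlinarith
  have q3 : 36 * v ^ 2 - 3 * b ^ 2 + 3 - 8 * v * b ≤ 3 * v ^ 2 := by
    rcases le_or_gt (36 * v ^ 2 - 3 * b ^ 2 + 3 - 8 * v * b) 0 with h | h
    · linarith
    · nlinarith [mul_le_mul_of_nonneg_right hc h.le]
  have q4 : 9 * v ≤ 4 * b := by nlinarith
  have hb9 : 9 ≤ b := by omega
  have q5 : v ≤ 4 := by nlinarith
  have q6 : b ≤ 10 := by nlinarith
  have hb' : b = 9 := by omega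
  subst hb'
  have hf' : f = 4 := by omega
  have hv' : v = 4 := by
    interval_cases v <;> first | rfl | (norm_num at q1)
  subst hf' hv'
  refine ⟨?_, rfl, rfl⟩
  norm_num at q2
  omega

theorem arith_swapped {c f v K N m : ℤ} (hc : 0 < c) (hv : 1 ≤ v)
    (h1 : K * v ^ 2 = 3 * c * (f * (f + 1)))
    (h2 : 3 * N * v ^ 2 = c ^ 2 * (3 * (f * (f + 1)) - v * (2 * f + 1)))
    (hK : 9 * c + 4 * m ≤ 4 * K) (hN : 4 * N ≤ c * (m - 1)) : False := by
  have hv2 : 0 < v ^ 2 := by positivity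
  obtain ⟨b, hb⟩ : ∃ b, b = 2 * f + 1 := ⟨_, rfl⟩
  have hF : 4 * (f * (f + 1)) = b ^ 2 - 1 := by rw [hb]; ring
  rw [← hb] at h2
  have e1 : c * (4 * (c * (3 * (f * (f + 1)) - v * b))) ≤ c * (3 * (m - 1) * v ^ 2) := by nlinarith
  have e2 := le_of_mul_le_mul_left e1 hc
  have e3 : (9 * c + 4 * m) * v ^ 2 ≤ 12 * c * (f * (f + 1)) := by
    nlinarith [mul_le_mul_of_nonneg_right hK hv2.le]
  have e4 : c * (3 * b ^ 2 - 16 * v * b + 27 * v ^ 2 - 3) < 0 := by nlinarith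
  have e5 : 3 * b ^ 2 - 16 * v * b + 27 * v ^ 2 - 3 < 0 := by
    by_contra hn
    nlinarith [mul_nonneg hc.le (not_lt.1 hn)]
  nlinarith [sq_nonneg (3 * b - 8 * v)]

theorem arith_eight {f v K N : ℤ} {n : ℕ} (hf : 4 ≤ f)
    (h1 : K * v ^ 2 = 3 * 8 * (f * (f + 1)))
    (h2 : 3 * N * v ^ 2 = 8 ^ 2 * (3 * (f * (f + 1)) - v * (2 * f + 1)))
    (ha : 2 * (f - v) ^ 2 + 2 * (f - v) + 2 ≤ 8) (hN : N = 4 * n) (hn : n ≤ 4) :
    K = 21 := by
  obtain ⟨a, rfl⟩ : ∃ a, v = f - a := ⟨f - v, by ring⟩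
  rw [sub_sub_cancel] at ha
  have ha1 : -3 ≤ a := by nlinarith
  have ha2 : a ≤ 2 := by nlinarith
  subst hN
  have hfb : f ≤ 60 := by
    interval_cases a <;> (try norm_num at ha) <;> interval_cases n <;> norm_num at h2 <;> nlinarith
  interval_cases a <;> (try norm_num at ha) <;> interval_cases n <;> interval_cases f <;>
    norm_num at h2 <;> norm_num at h1 <;> omega

/-- The bound for a pair of neighbouring four-groups. -/
theorem pair_bound {c d e : ℕ} (hc : 16 ≤ c) (hd4 : 4 ∣ d) (he4 : 4 ∣ e) (hd3 : d % 3 = 1)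
    (he3 : e % 3 = 1) (hd : 2 * d ∣ c) (he : 2 * e ∣ c) (h : d ^ 2 * e ≤ c ^ 2) :
    12 * d * e ≤ c * (2 * e + d) := by
  have hdc := Nat.le_of_dvd (by omega) hd
  have hec := Nat.le_of_dvd (by omega) he
  obtain ⟨i, hi⟩ := hd
  obtain ⟨j, hj⟩ := he
  have hd0 : 0 < d := by omega
  have he0 : 0 < e := by omega
  have hi0 : i ≠ 0 := fun e0 => by rw [e0, mul_zero] at hi; omega
  have hj0 : j ≠ 0 := fun e0 => by rw [e0, mul_zero] at hj; omega
  rcases Nat.lt_or_ge i 2 with hi2 | hi2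
  · have : i = 1 := by omega
    subst this
    rw [mul_one] at hi
    have he' : e ≤ 4 := by
      by_contra hn
      have : d ^ 2 * 5 ≤ d ^ 2 * e := Nat.mul_le_mul_left _ (by omega)
      rw [hi] at h
      nlinarith
    have : e = 4 := by omega
    subst this
    have : 16 ≤ d := by omega
    nlinarith
  have hd' : 4 * d ≤ c := by rw [hi]; nlinarith
  rcases Nat.lt_or_ge j 2 with hj2 | hj2
  · have : j = 1 := by omega
    subst this
    rw [mul_one] at hj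
    have h' : d ^ 2 ≤ 2 * c := by
      rw [hj] at h ⊢
      by_contra hn
      have : (2 * (2 * e) + 1) * e ≤ d ^ 2 * e := Nat.mul_le_mul_right _ (by omega)
      nlinarith
    have h5 : 5 * d ≤ c := by
      rcases Nat.lt_or_ge c 50 with h50 | h50
      · have : e ≤ 24 := by omega
        have : d ≤ 9 := by nlinarith
        omega
      · by_contra hn
        have : c * c < (5 * d) * (5 * d) := Nat.mul_self_lt_mul_self (by omega)
        nlinarith
    nlinarith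
  have he' : 4 * e ≤ c := by rw [hj]; nlinarith
  nlinarith [Nat.mul_le_mul_left e hd', Nat.mul_le_mul_left d he']

end CfsgLib.Char.SelfCentThree
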