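import Cfsg.Agent.Lib.Char.SelfCentThree.Local

/-!
# Involutions sharing their centralizer
-/

set_option autoImplicit false
set_option linter.unusedSectionVars false

namespace CfsgLib.Char.SelfCentThree

open Subgroup

universe u

variable {G : Type u} [Group G] [Fintype G] [DecidableEq G]

/-- The involutions with the same centralizer as `t`. -/
noncomputable def zset (t : G) : Finset G := by
  classical exact (invs G).filter fun z => centralizer ({z} : Set G) = centralizer ({t} : Set G)

theorem mem_zset {t z : G} :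
    z ∈ zset t ↔ orderOf z = 2 ∧ centralizer ({z} : Set G) = centralizer ({t} : Set G) := by
  simp [zset, mem_invs]

/-- A kernel of index three in the normalizer of the common centralizer. -/
theorem Cent3.exists_kernel (h : Cent3 G) {t y : G} (ht : orderOf t = 2) (hy : orderOf y = 3)
    (M : Subgroup G) (hyM : y ∈ M) (hHM : centralizer ({t} : Set G) ≤ M)
    (hnoinv : ∀ s ∈ M, s * y * s⁻¹ ≠ y⁻¹) :
    ∃ K : Subgroup G, K ≤ M ∧ (∀ m ∈ M, ∀ k ∈ K, m * k * m⁻¹ ∈ K) ∧
      centralizer ({t} : Set G) ≤ K ∧ Nat.card K * 3 = Nat.card M ∧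
      ∀ k ∈ K, orderOf (k * y) = 3 := by
  haveI : Fact (Nat.Prime 3) := ⟨Nat.prime_three⟩
  have hM : Cent3 M := by
    intro a g ha hc
    rw [← Subgroup.orderOf_coe] at ha
    rcases h a g ha (congrArg Subtype.val hc) with e | e | e
    · exact Or.inl (Subtype.ext e)
    · exact Or.inr (Or.inl (Subtype.ext e))
    · exact Or.inr (Or.inr (Subtype.ext e))
  set y' : M := ⟨y, hyM⟩ with hy'
  have hy3 : orderOf y' = 3 := by rw [hy', Subgroup.orderOf_mk, hy]
  obtain ⟨P, hP⟩ := (IsPGroup.of_card (p := 3) (n := 1)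
    (show Nat.card (zpowers y') = 3 ^ 1 by rw [Nat.card_zpowers, hy3, pow_one])).exists_le_sylow
  have hPy : (P : Subgroup M) = zpowers y' :=
    (eq_of_le_of_card_ge hP (by rw [hM.not_nine_dvd hy3 P, Nat.card_zpowers, hy3])).symm
  have hN : normalizer ((P : Subgroup M) : Set M) ≤ centralizer ((P : Subgroup M) : Set M) := by
    intro g hg
    have hm : g * y' * g⁻¹ ∈ zpowers y' := by
      rw [← hPy]
      exact (Subgroup.mem_normalizer_iff.1 hg y').1 (hPy ▸ mem_zpowers y')
    obtain ⟨j, hj⟩ := mem_zpowers_iff.1 hm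
    have hgy : g * y' = y' * g := by
      rcases hM y' (g * y' * g⁻¹) hy3 (by rw [← hj]; exact ((Commute.refl y').zpow_left j).eq) with e | e | e
      · exact absurd (conj_eq_one_iff.1 e) (ne_one_of_order hy3 (by norm_num))
      · exact mul_inv_eq_iff_eq_mul.1 e
      · exact absurd (congrArg Subtype.val e) (hnoinv g g.2)
    rw [mem_centralizer_iff]
    intro p hp
    obtain ⟨i, rfl⟩ := mem_zpowers_iff.1 (hPy ▸ hp : p ∈ zpowers y')
    exact (Commute.zpow_left (show Commute y' g from hgy.symm) i).eq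
  set K0 : Subgroup M := (MonoidHom.transferSylow P hN).ker with hK0
  have hcomp : IsComplement' K0 (P : Subgroup M) := MonoidHom.ker_transferSylow_isComplement' P hN
  have hidx : K0.index = 3 := by rw [hcomp.symm.index_eq_card, hM.not_nine_dvd hy3 P]
  have hcop : ∀ g : M, ¬ 3 ∣ orderOf g → g ∈ K0 := by
    intro g hg
    have h1 : orderOf (QuotientGroup.mk' K0 g) = 1 := by
      refine Nat.eq_one_of_dvd_coprimes ((Nat.Prime.coprime_iff_not_dvd Nat.prime_three).2 hg).symm
        (orderOf_map_dvd _ g) ?_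
      have hd := orderOf_dvd_natCard (QuotientGroup.mk' K0 g)
      rwa [← index_eq_card, hidx] at hd
    rwa [orderOf_eq_one_iff, QuotientGroup.mk'_apply, QuotientGroup.eq_one_iff] at h1
  refine ⟨K0.map M.subtype, map_subtype_le K0, ?_, ?_, ?_, ?_⟩
  · rintro m hm _ ⟨k, hk, rfl⟩
    exact ⟨_, (inferInstance : K0.Normal).conj_mem k hk ⟨m, hm⟩, rfl⟩
  · intro g hg
    refine ⟨⟨g, hHM hg⟩, hcop _ ?_, rfl⟩
    rw [Subgroup.orderOf_mk]
    intro h3
    have h4 : orderOf (g ^ (orderOf g / 3)) = 3 := orderOf_pow_orderOf_div (orderOf_pos g).ne' h3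
    refine h.no_comm ht h4 ?_
    exact ((show Commute t g from (mem_centralizer_singleton_iff.1 hg).symm).pow_right _).eq
  · rw [Nat.card_congr (K0.equivMapOfInjective _ M.subtype_injective).symm.toEquiv, ← hidx,
      card_mul_index]
  · rintro _ ⟨k, hk, rfl⟩
    have hnot : k * y' ∉ K0 := fun hm => by
      have hyK : y' ∈ K0 := (K0.mul_mem_cancel_left hk).1 hm
      have hd := hcomp.disjoint
      exact ne_one_of_order hy3 (by norm_num)
        (mem_bot.1 (hd.le_bot ⟨hyK, hPy ▸ mem_zpowers y'⟩))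
    have h3 : 3 ∣ orderOf (k * y') := by
      by_contra hn
      exact hnot (hcop _ hn)
    have hz := orderOf_pow_orderOf_div (orderOf_pos (k * y')).ne' h3
    rw [show ((M.subtype k) * y) = ((k * y' : M) : G) from rfl, Subgroup.orderOf_coe]
    rcases hM _ (k * y') hz ((Commute.refl _).pow_right _).eq with e | e | e
    · exact absurd (e ▸ one_mem K0) hnot
    · rw [e]; exact hz
    · rw [e, orderOf_inv]; exact hz

/-- At most three involutions share a centralizer. -/
theorem Cent3.card_zset_le (h : Cent3 G) {t y : G} (ht : orderOf t = 2) (hy : orderOf y = 3)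
    (hyt : orderOf (y * t) = 3) (hone : ∀ r : G, orderOf r = 2 ↔ IsConj t r)
    (hcent : y * t * y⁻¹ ∈ zset t) : (zset t).card ≤ 3 := by
  classical
  set H := centralizer ({t} : Set G) with hH
  have htH : t ∈ H := mem_centralizer_singleton_iff.2 rfl
  have hzcomm : ∀ z ∈ zset t, ∀ g ∈ H, g * z = z * g := fun z hz g hg =>
    mem_centralizer_singleton_iff.1 ((mem_zset.1 hz).2.symm ▸ hg)
  have hzH : ∀ z ∈ zset t, z ∈ H := fun z hz => by
    rw [hH, mem_centralizer_singleton_iff]
    exact (hzcomm z hz t htH).symm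
  have hcardc : ∀ r : G, orderOf r = 2 → Nat.card (centralizer ({r} : Set G)) = Nat.card H := by
    intro r hr
    obtain ⟨g, rfl⟩ := isConj_iff.1 ((hone r).1 hr)
    have : centralizer ({g * t * g⁻¹} : Set G) = H.map (MulAut.conj g).toMonoidHom := by
      ext a
      rw [mem_centralizer_singleton_iff]
      constructor
      · intro ha
        refine ⟨g⁻¹ * a * g, ?_, by show g * (g⁻¹ * a * g) * g⁻¹ = a; group⟩
        refine mem_centralizer_singleton_iff.2 ?_
        calc g⁻¹ * a * g * t = g⁻¹ * (a * (g * t * g⁻¹)) * g := by group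
          _ = t * (g⁻¹ * a * g) := by rw [ha]; group
      · rintro ⟨b, hb, rfl⟩
        show g * b * g⁻¹ * (g * t * g⁻¹) = g * t * g⁻¹ * (g * b * g⁻¹)
        calc g * b * g⁻¹ * (g * t * g⁻¹) = g * (b * t) * g⁻¹ := by group
          _ = g * t * g⁻¹ * (g * b * g⁻¹) := by rw [mem_centralizer_singleton_iff.1 hb]; group
    rw [this, Nat.card_congr (H.equivMapOfInjective _ (MulAut.conj g).injective).symm.toEquiv]
  -- the elementary group of these involutions
  let E : Subgroup G :=
    { carrier := {z | z = 1 ∨ z ∈ zset t}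
      one_mem' := Or.inl rfl
      mul_mem' := by
        rintro a b (rfl | ha) hb
        · rwa [one_mul]
        rcases hb with rfl | hb
        · rw [mul_one]; exact Or.inr ha
        by_cases hab : a * b = 1
        · exact Or.inl hab
        refine Or.inr ?_
        have hcab : a * b = b * a := hzcomm b hb a (hzH a ha)
        have h2 : orderOf (a * b) = 2 := orderOf_two (by
          rw [mul_assoc, ← mul_assoc b a b, ← hcab, mul_assoc, mul_self_invol (mem_zset.1 hb).1, mul_one,
            mul_self_invol (mem_zset.1 ha).1]) hab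
        refine mem_zset.2 ⟨h2, (eq_of_le_of_card_ge ?_ (hcardc _ h2).le).symm⟩
        intro g hg
        rw [mem_centralizer_singleton_iff, ← mul_assoc, hzcomm a ha g hg, mul_assoc, hzcomm b hb g hg,
          mul_assoc]
      inv_mem' := by
        rintro a (rfl | ha)
        · exact Or.inl inv_one
        · rw [inv_eq_self (mem_zset.1 ha).1]; exact Or.inr ha }
  have hE2 : ∀ e ∈ E, e * e = 1 := by
    rintro e (rfl | he)
    · exact one_mul 1
    · exact mul_self_invol (mem_zset.1 he).1
  have htz : t ∈ zset t := mem_zset.2 ⟨ht, rfl⟩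
  haveI hEc : IsMulCommutative E := ⟨⟨fun a b => Subtype.ext (by
    rcases b.2 with e | hb
    · show (a : G) * (b : G) = (b : G) * (a : G)
      rw [e, mul_one, one_mul]
    · rcases a.2 with e | ha
      · show (a : G) * (b : G) = (b : G) * (a : G)
        rw [e, mul_one, one_mul]
      · exact hzcomm _ hb _ (hzH _ ha))⟩⟩
  have hcardE : Nat.card E = (zset t).card + 1 := by
    rw [← Finset.card_insert_of_notMem (s := zset t) (a := 1)
      (fun h1 => ne_one_of_order (mem_zset.1 h1).1 (by norm_num) rfl), Nat.card_eq_fintype_card]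
    rw [← Fintype.card_coe]
    exact Fintype.card_congr (Equiv.subtypeEquivRight fun z => by simp [E])
  have hodd : Odd (zset t).card := by
    haveI : Fact (Nat.Prime 2) := ⟨Nat.prime_two⟩
    have hp : IsPGroup 2 E := fun e => ⟨1, Subtype.ext (by simpa [pow_two] using hE2 e e.2)⟩
    obtain ⟨j, hj⟩ := hp.exists_card_eq
    have hj0 : j ≠ 0 := fun e => by
      rw [hcardE, e, pow_zero] at hj
      have := Finset.card_pos.2 ⟨t, htz⟩
      omega
    rw [hcardE] at hj
    have hev : Even (2 ^ j) := Nat.even_pow.2 ⟨even_two, hj0⟩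
    rw [← hj, Nat.even_add_one] at hev
    exact Nat.not_even_iff_odd.1 hev
  -- the normalizer
  let M : Subgroup G :=
    { carrier := {m | ∀ g, g ∈ H ↔ m * g * m⁻¹ ∈ H}
      one_mem' := fun g => by simp
      mul_mem' := fun {a b} ha hb g => by
        rw [hb g, ha (b * g * b⁻¹), show a * (b * g * b⁻¹) * a⁻¹ = a * b * g * (a * b)⁻¹ by group]
      inv_mem' := fun {a} ha g => by
        rw [ha (a⁻¹ * g * a⁻¹⁻¹), show a * (a⁻¹ * g * a⁻¹⁻¹) * a⁻¹ = g by group] }
  have hHM : H ≤ M := fun a ha g => by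
    rw [H.mul_mem_cancel_right (H.inv_mem ha), H.mul_mem_cancel_left ha]
  have hMz : ∀ m ∈ M, ∀ z ∈ zset t, m * z * m⁻¹ ∈ zset t := by
    intro m hm z hz
    refine mem_zset.2 ⟨(orderOf_conj_eq m z).trans (mem_zset.1 hz).1, ?_⟩
    ext g
    rw [mem_centralizer_singleton_iff]
    have h1 := (M.inv_mem hm) g
    rw [inv_inv] at h1
    rw [h1]
    constructor
    · intro hg
      rw [hH, ← (mem_zset.1 hz).2, mem_centralizer_singleton_iff]
      calc m⁻¹ * g * m * z = m⁻¹ * (g * (m * z * m⁻¹)) * m := by group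
        _ = z * (m⁻¹ * g * m) := by rw [hg]; group
    · intro hg
      have := hzcomm z hz _ hg
      calc g * (m * z * m⁻¹) = m * ((m⁻¹ * g * m) * z) * m⁻¹ := by group
        _ = m * z * m⁻¹ * g := by rw [this]; group
  have hMof : ∀ m : G, m * t * m⁻¹ ∈ zset t → m ∈ M := by
    intro m hm g
    constructor
    · intro hg
      rw [hH, ← (mem_zset.1 hm).2, mem_centralizer_singleton_iff]
      calc m * g * m⁻¹ * (m * t * m⁻¹) = m * (g * t) * m⁻¹ := by group
        _ = m * t * m⁻¹ * (m * g * m⁻¹) := by rw [mem_centralizer_singleton_iff.1 hg]; group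
    · intro hg
      rw [hH, ← (mem_zset.1 hm).2, mem_centralizer_singleton_iff] at hg
      rw [hH, mem_centralizer_singleton_iff]
      calc g * t = m⁻¹ * (m * g * m⁻¹ * (m * t * m⁻¹)) * m := by group
        _ = t * g := by rw [hg]; group
  have hyM : y ∈ M := hMof y hcent
  -- counting the normalizer
  have horbit : ∀ (L : Subgroup G) (O : Finset G), H ≤ L →
      (∀ l ∈ L, l * t * l⁻¹ ∈ O) → (∀ o ∈ O, ∃ l ∈ L, l * t * l⁻¹ = o) →
      Nat.card L = O.card * Nat.card H := by
    intro L O hHL h1 h2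
    let S : Finset G := Finset.univ.filter (· ∈ L)
    have hS : S.card = Nat.card L := by rw [Nat.card_eq_fintype_card, Fintype.card_subtype]
    rw [← hS, Finset.card_eq_sum_card_fiberwise (f := fun l : G => l * t * l⁻¹) (t := O)
      (fun l hl => h1 l (Finset.mem_filter.1 hl).2),
      Finset.sum_congr rfl (g := fun _ => Nat.card H) fun o ho => ?_, Finset.sum_const, smul_eq_mul]
    obtain ⟨l, hl, rfl⟩ := h2 o ho
    rw [Nat.card_eq_fintype_card, Fintype.card_subtype]
    refine Finset.card_bij' (fun a _ => l⁻¹ * a) (fun b _ => l * b) ?_ ?_ ?_ ?_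
    · intro a ha
      simp only [S, Finset.mem_filter, Finset.mem_univ, true_and] at ha ⊢
      rw [hH, mem_centralizer_singleton_iff]
      calc l⁻¹ * a * t = l⁻¹ * (a * t * a⁻¹) * a := by group
        _ = t * (l⁻¹ * a) := by rw [ha.2]; group
    · intro b hb
      simp only [S, Finset.mem_filter, Finset.mem_univ, true_and] at hb ⊢
      refine ⟨L.mul_mem hl (hHL hb), ?_⟩
      calc l * b * t * (l * b)⁻¹ = l * (b * t) * b⁻¹ * l⁻¹ := by group
        _ = l * t * l⁻¹ := by rw [mem_centralizer_singleton_iff.1 hb]; group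
    · intro a _; group
    · intro b _; group
  have hcardM : Nat.card M = (zset t).card * Nat.card H := horbit M (zset t) hHM
    (fun m hm => hMz m hm t htz) fun z hz => by
      obtain ⟨m, hm⟩ := isConj_iff.1 ((hone z).1 (mem_zset.1 hz).1)
      exact ⟨m, hMof m (hm.symm ▸ hz), hm⟩
  have hnoinv : ∀ s ∈ M, s * y * s⁻¹ ≠ y⁻¹ := by
    intro s hs hinv
    have hs2 := h.inverts_invol hy hinv
    -- the involution is in the kernel of odd index
    haveI hnorm : (H.subgroupOf M).Normal := ⟨fun a ha m => by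
      rw [mem_subgroupOf] at ha ⊢
      exact (m.2 a).1 ha⟩
    have hsH : s ∈ H := by
      have hidx : (H.subgroupOf M).index = (zset t).card := by
        have h1 := (H.subgroupOf M).card_mul_index
        rw [Nat.card_congr (subgroupOfEquivOfLe hHM).toEquiv, hcardM, mul_comm (zset t).card] at h1
        exact Nat.eq_of_mul_eq_mul_left Nat.card_pos h1
      have h1 : orderOf (QuotientGroup.mk' (H.subgroupOf M) ⟨s, hs⟩) = 1 := by
        refine Nat.eq_one_of_dvd_coprimes (Nat.coprime_two_left.2 hodd) ?_ ?_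
        · refine (orderOf_map_dvd _ _).trans ?_
          rw [Subgroup.orderOf_mk, hs2]
        · rw [← hidx, index_eq_card]
          exact orderOf_dvd_natCard _
      rwa [orderOf_eq_one_iff, QuotientGroup.mk'_apply, QuotientGroup.eq_one_iff] at h1
    have h2 : y * s * y⁻¹ ∈ H := (hyM s).1 hsH
    have h3 : y * y ∈ H := by
      have := H.mul_mem h2 hsH
      rwa [show y * s * y⁻¹ * s = y * (s * y⁻¹ * s⁻¹) * (s * s) by group, mul_self_invol hs2, mul_one,
        show s * y⁻¹ * s⁻¹ = (s * y * s⁻¹)⁻¹ by group, hinv, inv_inv] at this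
    rw [← inv_eq_sq hy] at h3
    exact h.no_comm ht hy (mem_centralizer_singleton_iff.1 (inv_inv y ▸ H.inv_mem h3)).symm
  obtain ⟨K, hKM, hKn, hHK, hKcard, hKy⟩ := h.exists_kernel ht hy M hyM hHM hnoinv
  -- the orbit of the kernel
  set O : Finset G := (Finset.univ.filter (· ∈ K)).image (fun k => k * t * k⁻¹) with hO
  have hOmem : ∀ k ∈ K, k * t * k⁻¹ ∈ O := fun k hk =>
    Finset.mem_image.2 ⟨k, Finset.mem_filter.2 ⟨Finset.mem_univ _, hk⟩, rfl⟩
  have hOex : ∀ o ∈ O, ∃ k ∈ K, k * t * k⁻¹ = o := fun o ho => by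
    obtain ⟨k, hk, e⟩ := Finset.mem_image.1 ho
    exact ⟨k, (Finset.mem_filter.1 hk).2, e⟩
  have hOz : ∀ o ∈ O, o ∈ zset t := fun o ho => by
    obtain ⟨k, hk, rfl⟩ := hOex o ho
    exact hMz k (hKM hk) t htz
  have hcardK := horbit K O hHK hOmem hOex
  have hOZ : O.card * 3 = (zset t).card := by
    rw [hcardK, hcardM] at hKcard
    exact Nat.eq_of_mul_eq_mul_right Nat.card_pos (by rw [← hKcard]; ring)
  have hOodd : Odd O.card := (Nat.odd_mul.1 (hOZ ▸ hodd)).1
  have hyi : y⁻¹ ∈ M := M.inv_mem hyM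
  have hyK : ∀ k ∈ K, y⁻¹ * k * y ∈ K := fun k hk => by
    have := hKn y⁻¹ hyi k hk
    rwa [inv_inv] at this
  choose f hfK hft using hOex
  -- the two permutations of the orbit
  let σ₁ : O → O := fun o => ⟨y⁻¹ * (f o o.2 * (y * t * y⁻¹) * (f o o.2)⁻¹) * y, by
    have := hOmem _ (hyK _ (hfK o o.2))
    rwa [show y⁻¹ * f o o.2 * y * t * (y⁻¹ * f o o.2 * y)⁻¹ =
      y⁻¹ * (f o o.2 * (y * t * y⁻¹) * (f o o.2)⁻¹) * y by group] at this⟩
  let σ₂ : O → O := fun o => ⟨(f o o.2)⁻¹ * t * f o o.2, by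
    have := hOmem _ (K.inv_mem (hfK o o.2))
    rwa [inv_inv] at this⟩
  have hσ₁ : Function.Injective σ₁ := by
    intro a b e
    have e' := congrArg Subtype.val e
    simp only [σ₁] at e'
    have e'' := mul_left_cancel (mul_right_cancel e')
    have hm : (f a a.2)⁻¹ * f b b.2 ∈ H := by
      rw [hH, ← (mem_zset.1 hcent).2, mem_centralizer_singleton_iff]
      calc (f a a.2)⁻¹ * f b b.2 * (y * t * y⁻¹)
          = (f a a.2)⁻¹ * (f b b.2 * (y * t * y⁻¹) * (f b b.2)⁻¹) * f b b.2 := by group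
        _ = y * t * y⁻¹ * ((f a a.2)⁻¹ * f b b.2) := by rw [← e'']; group
    apply Subtype.ext
    rw [← hft a a.2, ← hft b b.2]
    have := mem_centralizer_singleton_iff.1 hm
    calc f a a.2 * t * (f a a.2)⁻¹
        = f a a.2 * (t * ((f a a.2)⁻¹ * f b b.2)) * (f b b.2)⁻¹ := by group
      _ = f b b.2 * t * (f b b.2)⁻¹ := by rw [← this]; group
  have hσ₂ : Function.Injective σ₂ := by
    intro a b e
    have e' := congrArg Subtype.val e
    simp only [σ₂] at e'
    have hm : f b b.2 * (f a a.2)⁻¹ ∈ H := by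
      rw [hH, mem_centralizer_singleton_iff]
      calc f b b.2 * (f a a.2)⁻¹ * t = f b b.2 * ((f a a.2)⁻¹ * t * f a a.2) * (f a a.2)⁻¹ := by group
        _ = t * (f b b.2 * (f a a.2)⁻¹) := by rw [e']; group
    have hm' : (f a a.2)⁻¹ * f b b.2 ∈ H := by
      have := ((M.inv_mem (hKM (hfK a a.2))) _).1 hm
      rwa [show (f a a.2)⁻¹ * (f b b.2 * (f a a.2)⁻¹) * (f a a.2)⁻¹⁻¹ = (f a a.2)⁻¹ * f b b.2 by group] at this
    apply Subtype.ext
    rw [← hft a a.2, ← hft b b.2]
    have := mem_centralizer_singleton_iff.1 hm'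
    calc f a a.2 * t * (f a a.2)⁻¹
        = f a a.2 * (t * ((f a a.2)⁻¹ * f b b.2)) * (f b b.2)⁻¹ := by group
      _ = f b b.2 * t * (f b b.2)⁻¹ := by rw [← this]; group
  -- the product trick
  letI : CommGroup E := { (inferInstance : Group E) with mul_comm := fun a b => hEc.is_comm.comm a b }
  have hME : ∀ m ∈ M, ∀ e ∈ E, m * e * m⁻¹ ∈ E := by
    rintro m hm e (rfl | he)
    · exact Or.inl (by group)
    · exact Or.inr (hMz m hm e he)
  let cE : ∀ m ∈ M, E →* E := fun m hm =>
    { toFun := fun e => ⟨m * e * m⁻¹, hME m hm e e.2⟩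
      map_one' := Subtype.ext (by show m * 1 * m⁻¹ = 1; group)
      map_mul' := fun a b => Subtype.ext (by
        show m * ((a : G) * b) * m⁻¹ = m * a * m⁻¹ * (m * b * m⁻¹); group) }
  have hcE : ∀ (m : G) (hm : m ∈ M) (e : E), ((cE m hm e : E) : G) = m * e * m⁻¹ := fun _ _ _ => rfl
  have horbit3 : ∀ (g : G) (hg : g ∈ M) (e : E), orderOf g = 3 →
      e * cE g hg e * cE g⁻¹ (M.inv_mem hg) e = 1 := by
    intro g hg e hg3
    have g3 := pow_three_eq_one hg3
    set q := e * cE g hg e * cE g⁻¹ (M.inv_mem hg) e with hq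
    have hfix : cE g hg q = q := by
      have e1 : cE g hg (cE g hg e) = cE g⁻¹ (M.inv_mem hg) e := Subtype.ext (by
        show g * (g * e * g⁻¹) * g⁻¹ = g⁻¹ * e * g⁻¹⁻¹
        calc g * (g * e * g⁻¹) * g⁻¹ = g⁻¹ * (g * g * g) * e * (g * g * g)⁻¹ * g := by group
          _ = g⁻¹ * e * g⁻¹⁻¹ := by rw [g3]; group)
      have e2 : cE g hg (cE g⁻¹ (M.inv_mem hg) e) = e := Subtype.ext (by
        show g * (g⁻¹ * e * g⁻¹⁻¹) * g⁻¹ = (e : G)
        group)
      rw [hq, map_mul, map_mul, e1, e2, mul_comm _ e, ← mul_assoc]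
    apply Subtype.ext
    by_contra hne
    have hq2 : orderOf (q : G) = 2 := orderOf_two (hE2 _ q.2) hne
    refine h.no_comm hq2 hg3 ?_
    have := congrArg Subtype.val hfix
    rw [hcE g hg] at this
    exact (mul_inv_eq_iff_eq_mul.1 this).symm
  let inE : O → E := fun o => ⟨o, Or.inr (hOz o o.2)⟩
  set tE : E := ⟨t, Or.inr htz⟩ with htE
  set P := ∏ o : O, inE o with hP
  have hterm : ∀ o : O, tE * cE y hyM (inE (σ₁ o)) * cE y⁻¹ hyi (inE (σ₂ o)) = 1 := by
    intro o
    have hg : f o o.2 * y ∈ M := M.mul_mem (hKM (hfK o o.2)) hyM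
    rw [← horbit3 _ hg tE (hKy _ (hfK o o.2))]
    congr 1
    · congr 1
      apply Subtype.ext
      simp only [hcE, inE, σ₁, htE]
      group
    · apply Subtype.ext
      simp only [hcE, inE, σ₂, htE]
      group
  have hprod := Finset.prod_congr (s₁ := (Finset.univ : Finset O)) rfl (fun o _ => hterm o)
  rw [Finset.prod_mul_distrib, Finset.prod_mul_distrib, Finset.prod_const, Finset.prod_const_one,
    ← map_prod, ← map_prod,
    show ∏ o, inE (σ₁ o) = P from
      Equiv.prod_comp (Equiv.ofBijective σ₁ (Finite.injective_iff_bijective.1 hσ₁)) inE,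
    show ∏ o, inE (σ₂ o) = P from
      Equiv.prod_comp (Equiv.ofBijective σ₂ (Finite.injective_iff_bijective.1 hσ₂)) inE,
    Finset.card_univ, Fintype.card_coe] at hprod
  have htE2 : tE * tE = 1 := Subtype.ext (hE2 _ tE.2)
  obtain ⟨j, hj⟩ := hOodd
  rw [hj, pow_succ, pow_mul, pow_two, htE2, one_pow, one_mul] at hprod
  have hPt : P = tE := by
    have h1 := horbit3 y hyM P hy
    rw [mul_assoc] at h1 hprod
    exact mul_right_cancel (h1.trans hprod.symm)
  -- the kernel fixes `t`
  have hfixt : ∀ k ∈ K, k * t * k⁻¹ = t := by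
    intro k hk
    let τ : O → O := fun o => ⟨k * o * k⁻¹, by
      have := hOmem _ (K.mul_mem hk (hfK o o.2))
      rw [show k * f o o.2 * t * (k * f o o.2)⁻¹ = k * (f o o.2 * t * (f o o.2)⁻¹) * k⁻¹ by group,
        hft o o.2] at this
      exact this⟩
    have hτ : Function.Injective τ := fun a b e => Subtype.ext
      (mul_left_cancel (mul_right_cancel (congrArg Subtype.val e)))
    have h1 : cE k (hKM hk) P = P := by
      rw [hP, map_prod]
      exact (Finset.prod_congr rfl fun o _ => (Subtype.ext (hcE k (hKM hk) (inE o)) :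
        cE k (hKM hk) (inE o) = inE (τ o))).trans
        (Equiv.prod_comp (Equiv.ofBijective τ (Finite.injective_iff_bijective.1 hτ)) inE)
    rw [hPt] at h1
    exact congrArg Subtype.val h1
  have hO1 : O.card ≤ 1 := Finset.card_le_one.2 fun a ha b hb => by
    rw [← hft a ha, ← hft b hb, hfixt _ (hfK a ha), hfixt _ (hfK b hb)]
  omega

end CfsgLib.Char.SelfCentThree
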