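import Cfsg.Agent.Lib.Char.SelfCentThree.Identities
import Cfsg.Agent.Lib.Char.SelfCentThree.Central
import Cfsg.Agent.Lib.Char.SelfCentThree.Arith

/-!
# The order of a simple group with a self-centralizing subgroup of order three
-/

set_option autoImplicit false
set_option linter.unusedSectionVars false

namespace CfsgLib.Char.SelfCentThree

open Subgroup

universe u

variable {G : Type u} [Group G] [Fintype G] [DecidableEq G]

/-- The images of `t` under the elements of order three attached to it. -/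
noncomputable def uset (t : G) : Finset G := (yset t).image fun y => y * t * y⁻¹

theorem uset_facts (h : Cent3 G) {t u : G} (ht : orderOf t = 2) (hu : u ∈ uset t) :
    orderOf u = 2 ∧ u * t = t * u ∧ u ≠ t ∧ t * u ∈ uset t ∧ orderOf (t * u) = 2 := by
  obtain ⟨y, hy, rfl⟩ := Finset.mem_image.1 hu
  rw [mem_yset] at hy
  obtain ⟨hu2, hw, hut, -, -⟩ := four_of_mem ht hy.1 hy.2
  refine ⟨hu2, hut, h.not_comm_img ht hy.1, Finset.mem_image.2 ⟨y⁻¹, mem_yset.2 ⟨?_, ?_⟩, ?_⟩, ?_⟩
  · rw [orderOf_inv]; exact hy.1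
  · rw [← orderOf_inv, mul_inv_rev, inv_inv, inv_eq_self ht, orderOf_mul_comm_eq]
    exact hy.2
  · rw [inv_inv]; exact hw
  · rw [← hw, show y⁻¹ * t * y = y⁻¹ * t * y⁻¹⁻¹ by rw [inv_inv], orderOf_conj_eq, ht]

theorem card_fibre (h : Cent3 G) {t u : G} (ht : orderOf t = 2) (hu : u ∈ uset t) :
    ((yset t).filter fun y => y * t * y⁻¹ = u).card = Nat.card (dsub t u) := by
  classical
  obtain ⟨y, hy, rfl⟩ := Finset.mem_image.1 hu
  rw [mem_yset] at hy
  obtain ⟨hu2, hw, hut, h4, h5⟩ := four_of_mem ht hy.1 hy.2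
  rw [Nat.card_eq_fintype_card, Fintype.card_subtype]
  refine le_antisymm ?_ ?_
  · refine Finset.card_le_card_of_injOn (fun y' => y⁻¹ * y') ?_ fun a _ b _ e => mul_left_cancel e
    intro y' hy'
    rw [Finset.mem_coe, Finset.mem_filter, mem_yset] at hy'
    obtain ⟨-, hw', -, h4', -⟩ := four_of_mem ht hy'.1.1 hy'.1.2
    rw [hy'.2] at hw' h4'
    simp only [Finset.coe_filter, Set.mem_setOf_eq, Finset.mem_univ, true_and, mem_dsub]
    constructor
    · calc y⁻¹ * y' * t = y⁻¹ * (y' * t * y'⁻¹) * y' := by group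
        _ = y⁻¹ * (y * t * y⁻¹) * y' := by rw [hy'.2]
        _ = t * (y⁻¹ * y') := by group
    · calc y⁻¹ * y' * (y * t * y⁻¹) = y⁻¹ * (y' * (y * t * y⁻¹) * y'⁻¹) * y' := by group
        _ = y⁻¹ * (y * (y * t * y⁻¹) * y⁻¹) * y' := by rw [h4', h4]
        _ = y * t * y⁻¹ * (y⁻¹ * y') := by group
  · refine Finset.card_le_card_of_injOn (fun g => g * y * g⁻¹) ?_ ?_
    · intro g hg
      simp only [Finset.coe_filter, Set.mem_setOf_eq, Finset.mem_univ, true_and, mem_dsub] at hg
      rw [Finset.mem_coe, Finset.mem_filter, mem_yset]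
      have hgt : g * t * g⁻¹ = t := by rw [hg.1, mul_inv_cancel_right]
      refine ⟨⟨(orderOf_conj_eq g y).trans hy.1, ?_⟩, ?_⟩
      · rw [show g * y * g⁻¹ * t = g * y * g⁻¹ * (g * t * g⁻¹) by rw [hgt],
          show g * y * g⁻¹ * (g * t * g⁻¹) = g * (y * t) * g⁻¹ by group, orderOf_conj_eq, hy.2]
      · calc g * y * g⁻¹ * t * (g * y * g⁻¹)⁻¹ = g * y * g⁻¹ * (g * t * g⁻¹) * (g * y * g⁻¹)⁻¹ := by
              rw [hgt]
          _ = g * (y * t * y⁻¹) * g⁻¹ := by group
          _ = y * t * y⁻¹ := by rw [hg.2, mul_inv_cancel_right]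
    · intro a ha b hb e
      simp only [Finset.coe_filter, Set.mem_setOf_eq, Finset.mem_univ, true_and, mem_dsub] at ha hb
      refine (inv_mul_eq_one.1 (h.eq_one_of_comm_two ht hy.1 ?_ ?_ : a⁻¹ * b = 1))
      · calc a⁻¹ * b * t = a⁻¹ * (b * t) := by group
          _ = a⁻¹ * (t * b) := by rw [hb.1]
          _ = a⁻¹ * (t * a) * a⁻¹ * b := by group
          _ = a⁻¹ * (a * t) * a⁻¹ * b := by rw [ha.1]
          _ = t * (a⁻¹ * b) := by group
      · simp only at e
        calc a⁻¹ * b * y = a⁻¹ * (b * y * b⁻¹) * b := by group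
          _ = a⁻¹ * (a * y * a⁻¹) * b := by rw [e]
          _ = y * (a⁻¹ * b) := by group

theorem card_yset_eq_sum (h : Cent3 G) {t : G} (ht : orderOf t = 2) :
    (yset t).card = ∑ u ∈ uset t, Nat.card (dsub t u) := by
  rw [Finset.card_eq_sum_card_fiberwise (f := fun y => y * t * y⁻¹) (t := uset t)
    (fun y hy => Finset.mem_image_of_mem _ hy)]
  exact Finset.sum_congr rfl fun u hu => card_fibre h ht hu

theorem card_uset_lt (h : Cent3 G) {t : G} (ht : orderOf t = 2) :
    (uset t).card + 1 ≤ (mset t).card := by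
  rw [← Finset.card_insert_of_notMem (a := t) fun hm => (uset_facts h ht hm).2.2.1 rfl]
  refine Finset.card_le_card fun a ha => ?_
  rw [mem_mset]
  rcases Finset.mem_insert.1 ha with rfl | ha
  · exact ⟨ht, rfl⟩
  · exact ⟨(uset_facts h ht ha).1, (uset_facts h ht ha).2.1⟩

theorem card_mset_lt {t : G} (ht : orderOf t = 2) :
    (mset t).card + 1 ≤ Nat.card (centralizer ({t} : Set G)) := by
  classical
  rw [Nat.card_eq_fintype_card, Fintype.card_subtype,
    ← Finset.card_insert_of_notMem (a := (1 : G)) (s := mset t) fun hm =>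
      ne_one_of_order (mem_mset.1 hm).1 (by norm_num) rfl]
  refine Finset.card_le_card fun a ha => ?_
  simp only [Finset.mem_filter, Finset.mem_univ, true_and, mem_centralizer_singleton_iff]
  rcases Finset.mem_insert.1 ha with rfl | ha
  · rw [one_mul, mul_one]
  · exact (mem_mset.1 ha).2

/-- The three mutual intersections have the same size. -/
theorem inter_card_eq {t y : G} (a b : G) :
    (rset (y * a * y⁻¹) ∩ rset (y * b * y⁻¹)).card = (rset a ∩ rset b).card := by
  refine Finset.card_bij' (fun s _ => y⁻¹ * s * y) (fun s _ => y * s * y⁻¹) ?_ ?_ ?_ ?_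
  · intro s hs
    simp only [Finset.mem_inter, mem_rset] at hs ⊢
    have e : ∀ c : G, orderOf (c * (y⁻¹ * s * y)) = orderOf (y * c * y⁻¹ * s) := fun c => by
      rw [← orderOf_conj_eq y (c * (y⁻¹ * s * y))]; congr 1; group
    have e' : orderOf (y⁻¹ * s * y) = orderOf s := by
      rw [show y⁻¹ * s * y = y⁻¹ * s * y⁻¹⁻¹ by rw [inv_inv], orderOf_conj_eq]
    exact ⟨⟨e'.trans hs.1.1, (e a).trans hs.1.2⟩, ⟨e'.trans hs.1.1, (e b).trans hs.2.2⟩⟩
  · intro s hs
    simp only [Finset.mem_inter, mem_rset] at hs ⊢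
    have e : ∀ c : G, orderOf (y * c * y⁻¹ * (y * s * y⁻¹)) = orderOf (c * s) := fun c => by
      rw [← orderOf_conj_eq y (c * s)]; congr 1; group
    exact ⟨⟨(orderOf_conj_eq y s).trans hs.1.1, (e a).trans hs.1.2⟩,
      ⟨(orderOf_conj_eq y s).trans hs.1.1, (e b).trans hs.2.2⟩⟩
  · intro s _; group
  · intro s _; group

/-- The inclusion-exclusion bound. -/
theorem card_invs_ge (h : Cent3 G) {t u : G} (ht : orderOf t = 2) (hu : u ∈ uset t)
    (hR : ∀ a : G, orderOf a = 2 → (rset a).card = Nat.card (centralizer ({t} : Set G))) :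
    3 * Nat.card (centralizer ({t} : Set G)) + (mset t).card ≤
      (invs G).card + 3 * (rset u ∩ rset (t * u)).card := by
  obtain ⟨hu2, hut, hne, -, hw2⟩ := uset_facts h ht hu
  obtain ⟨y, hy, rfl⟩ := Finset.mem_image.1 hu
  rw [mem_yset] at hy
  obtain ⟨-, hw, -, h4, h5⟩ := four_of_mem ht hy.1 hy.2
  set u := y * t * y⁻¹ with hudef
  set e := (rset u ∩ rset (t * u)).card with he
  have e2 : (rset (t * u) ∩ rset t).card = e := by
    have := inter_card_eq (t := t) (y := y) u (t * u)
    rwa [h4, h5] at this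
  have e3 : (rset t ∩ rset u).card = e := by
    have := inter_card_eq (t := t) (y := y) (t * u) t
    rw [h5, ← hudef] at this
    rw [this, e2]
  have hsub : rset t ∪ rset u ∪ rset (t * u) ⊆ invs G := by
    intro s hs
    simp only [Finset.mem_union, mem_rset] at hs
    exact mem_invs.2 (by rcases hs with (hs | hs) | hs <;> exact hs.1)
  have hdis : Disjoint (rset t ∪ rset u ∪ rset (t * u)) (mset t) := by
    rw [Finset.disjoint_left]
    intro s hs hm
    rw [mem_mset] at hm
    have key : ∀ a : G, a * t = t * a → orderOf (a * s) ≠ 3 := fun a hat h3 =>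
      h.no_comm ht h3 (by rw [← mul_assoc, ← hat, mul_assoc, ← hm.2, mul_assoc])
    simp only [Finset.mem_union, mem_rset] at hs
    rcases hs with (hs | hs) | hs
    · exact key t rfl hs.2
    · exact key u hut hs.2
    · exact key (t * u) (by rw [mul_assoc, hut]) hs.2
  have hM : mset t ⊆ invs G := fun s hs => mem_invs.2 (mem_mset.1 hs).1
  have h6 := Finset.card_le_card (Finset.union_subset hsub hM)
  rw [Finset.card_union_of_disjoint hdis] at h6
  have h7 := Finset.card_union_add_card_inter (rset t) (rset u)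
  have h8 := Finset.card_union_add_card_inter (rset t ∪ rset u) (rset (t * u))
  have h9 : ((rset t ∪ rset u) ∩ rset (t * u)).card ≤ e + e := by
    rw [Finset.union_inter_distrib_right]
    refine (Finset.card_union_le _ _).trans (add_le_add ?_ le_rfl)
    rw [Finset.inter_comm, e2]
  rw [hR t ht, hR u hu2, e3] at h7
  rw [hR (t * u) hw2] at h8
  omega

/-- A meeting pair of involution sets gives a swapping element. -/
theorem two_mul_dsub_dvd (h : Cent3 G) {t u : G} (ht : orderOf t = 2) (hu : u ∈ uset t)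
    (hI : (rset u ∩ rset (t * u)).Nonempty) :
    2 * Nat.card (dsub t u) ∣ Nat.card (centralizer ({t} : Set G)) ∧
      Nat.card (dsub t u) ≤ (rset u ∩ rset (t * u)).card := by
  classical
  obtain ⟨hu2, hut, hne, -, hw2⟩ := uset_facts h ht hu
  obtain ⟨s, hs⟩ := hI
  simp only [Finset.mem_inter, mem_rset] at hs
  have hcomm : u * (t * u) = t * u * u := by rw [← mul_assoc, hut]
  obtain ⟨g, hg1, hg2, hg3⟩ := swap_of_braid hu2 hw2 hcomm hs.1.1 hs.1.2 hs.2.2
  have hpq : u * (t * u) = t := by rw [← mul_assoc, hut, mul_assoc, mul_self_invol hu2, mul_one]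
  rw [hpq] at hg2
  have hgi : g⁻¹ = g := inv_eq_of_mul_eq_one_right hg1
  have htu1 : t * u ≠ u := fun e => ne_one_of_order ht (by norm_num) (mul_eq_right.1 e)
  set D := dsub t u with hD
  constructor
  · -- the stabilizer of the four-group
    let E : Subgroup G :=
      { carrier := {a | a * t = t * a ∧ (a * u * a⁻¹ = u ∨ a * u * a⁻¹ = t * u)}
        one_mem' := ⟨by rw [one_mul, mul_one], Or.inl (by group)⟩
        mul_mem' := by
          rintro a b ⟨ha, ha'⟩ ⟨hb, hb'⟩
          have hat : a * t * a⁻¹ = t := by rw [ha, mul_inv_cancel_right]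
          refine ⟨by rw [mul_assoc, hb, ← mul_assoc, ha, mul_assoc], ?_⟩
          rw [show a * b * u * (a * b)⁻¹ = a * (b * u * b⁻¹) * a⁻¹ by group]
          have hatu : a * (t * u) * a⁻¹ = t * (a * u * a⁻¹) := by
            rw [show a * (t * u) * a⁻¹ = a * t * a⁻¹ * (a * u * a⁻¹) by group, hat]
          rcases hb' with e | e <;> rw [e]
          · exact ha'
          · rw [hatu]
            rcases ha' with e' | e' <;> rw [e']
            · exact Or.inr rfl
            · exact Or.inl (by rw [← mul_assoc, mul_self_invol ht, one_mul])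
        inv_mem' := by
          rintro a ⟨ha, ha'⟩
          have ha2 : a⁻¹ * t = t * a⁻¹ := ((show Commute a t from ha).inv_left).eq
          refine ⟨ha2, ?_⟩
          rw [inv_inv]
          rcases ha' with e | e
          · exact Or.inl (by
              calc a⁻¹ * u * a = a⁻¹ * (a * u * a⁻¹) * a := by rw [e]
                _ = u := by group)
          · refine Or.inr ?_
            calc a⁻¹ * u * a = a⁻¹ * (t * (t * u)) * a := by
                  rw [← mul_assoc t t u, mul_self_invol ht, one_mul]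
              _ = t * (a⁻¹ * (t * u) * a) := by rw [← mul_assoc a⁻¹ t (t * u), ha2]; group
              _ = t * (a⁻¹ * (a * u * a⁻¹) * a) := by rw [e]
              _ = t * u := by group }
    have hDE : D ≤ E := fun a ha => by
      rw [mem_dsub] at ha
      exact ⟨ha.1, Or.inl (by rw [ha.2, mul_inv_cancel_right])⟩
    have hgu : g * u * g⁻¹ = t * u := by rw [hgi, hg3]
    have hgE : g ∈ E := ⟨hg2, Or.inr hgu⟩
    have hidx : (D.subgroupOf E).index = 2 := by
      rw [index_eq_two_iff]
      refine ⟨⟨g, hgE⟩, fun b => ?_⟩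
      simp only [mem_subgroupOf, coe_mul, hD, mem_dsub]
      rcases b.2 with ⟨hbt, hb | hb⟩
      · refine Or.inr ⟨⟨hbt, mul_inv_eq_iff_eq_mul.1 hb⟩, fun hc => htu1 ?_⟩
        have h1 : (b : G) * g * u * ((b : G) * g)⁻¹ = u := by rw [hc.2, mul_inv_cancel_right]
        rw [show (b : G) * g * u * ((b : G) * g)⁻¹ = b * (g * u * g⁻¹) * (b : G)⁻¹ by group, hgu,
          show (b : G) * (t * u) * (b : G)⁻¹ = b * t * (b : G)⁻¹ * (b * u * (b : G)⁻¹) by group, hb,
          hbt, mul_inv_cancel_right] at h1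
        exact h1
      · refine Or.inl ⟨⟨by rw [mul_assoc, hg2, ← mul_assoc, hbt, mul_assoc], ?_⟩, fun hc => htu1 ?_⟩
        · refine mul_inv_eq_iff_eq_mul.1 ?_
          rw [show (b : G) * g * u * ((b : G) * g)⁻¹ = b * (g * u * g⁻¹) * (b : G)⁻¹ by group, hgu,
            show (b : G) * (t * u) * (b : G)⁻¹ = b * t * (b : G)⁻¹ * (b * u * (b : G)⁻¹) by group, hb,
            hbt, mul_inv_cancel_right, ← mul_assoc, mul_self_invol ht, one_mul]
        · rw [hc.2, mul_inv_cancel_right] at hb
          exact hb.symm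
    have hcardE := (D.subgroupOf E).card_mul_index
    rw [hidx, Nat.card_congr (subgroupOfEquivOfLe hDE).toEquiv, mul_comm] at hcardE
    rw [hcardE]
    exact Subgroup.card_dvd_of_le fun a ha => mem_centralizer_singleton_iff.2 ha.1
  · rw [Nat.card_eq_fintype_card, Fintype.card_subtype]
    refine Finset.card_le_card_of_injOn (fun a => a * s * a⁻¹) ?_ ?_
    · intro a ha
      simp only [Finset.coe_filter, Set.mem_setOf_eq, Finset.mem_univ, true_and, hD, mem_dsub] at ha
      have hau : a * u * a⁻¹ = u := by rw [ha.2, mul_inv_cancel_right]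
      have hat : a * t * a⁻¹ = t := by rw [ha.1, mul_inv_cancel_right]
      have hatu : a * (t * u) * a⁻¹ = t * u := by
        rw [show a * (t * u) * a⁻¹ = a * t * a⁻¹ * (a * u * a⁻¹) by group, hat, hau]
      simp only [Finset.coe_inter, Set.mem_inter_iff, Finset.mem_coe, mem_rset]
      refine ⟨⟨(orderOf_conj_eq a s).trans hs.1.1, ?_⟩, ⟨(orderOf_conj_eq a s).trans hs.1.1, ?_⟩⟩
      · rw [← hau, show a * u * a⁻¹ * (a * s * a⁻¹) = a * (u * s) * a⁻¹ by group, orderOf_conj_eq]
        exact hs.1.2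
      · rw [← hatu, show a * (t * u) * a⁻¹ * (a * s * a⁻¹) = a * (t * u * s) * a⁻¹ by group,
          orderOf_conj_eq]
        exact hs.2.2
    · intro a ha b hb e
      simp only [Finset.coe_filter, Set.mem_setOf_eq, Finset.mem_univ, true_and, hD, mem_dsub] at ha hb
      simp only at e
      have k1 : a⁻¹ * b * t = t * (a⁻¹ * b) :=
        ((show Commute a t from ha.1).inv_left.mul_left (show Commute b t from hb.1)).eq
      have k2 : Commute (a⁻¹ * b) u :=
        (show Commute a u from ha.2).inv_left.mul_left (show Commute b u from hb.2)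
      have k3 : Commute (a⁻¹ * b) s := by
        show a⁻¹ * b * s = s * (a⁻¹ * b)
        calc a⁻¹ * b * s = a⁻¹ * (b * s * b⁻¹) * b := by group
          _ = a⁻¹ * (a * s * a⁻¹) * b := by rw [e]
          _ = s * (a⁻¹ * b) := by group
      exact inv_mul_eq_one.1 (h.eq_one_of_comm_two ht hs.1.2 k1 (k2.mul_right k3).eq)

theorem four_le_dsub (h : Cent3 G) {t u : G} (ht : orderOf t = 2) (hu : u ∈ uset t) :
    4 ∣ Nat.card (dsub t u) ∧ Nat.card (dsub t u) % 3 = 1 := by
  obtain ⟨y, hy, rfl⟩ := Finset.mem_image.1 hu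
  rw [mem_yset] at hy
  exact ⟨four_dvd_dsub h ht hy.1 hy.2, card_dsub_three h ht hy.1 hy.2⟩

theorem two_N_le (h : Cent3 G) {t : G} (ht : orderOf t = 2)
    (hone : ∀ r : G, orderOf r = 2 ↔ IsConj t r) :
    2 * (yset t).card ≤ Nat.card (centralizer ({t} : Set G)) * ((mset t).card + 1) := by
  classical
  set c := Nat.card (centralizer ({t} : Set G)) with hc
  set Uc := (uset t).filter fun u => Nat.card (dsub t u) = c with hUc
  have hUc2 : Uc.card ≤ 2 := by
    rcases Uc.eq_empty_or_nonempty with e | ⟨u, hu⟩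
    · rw [e]; simp
    have hz : ∀ a ∈ Uc, a ∈ zset t := by
      intro a ha
      rw [hUc, Finset.mem_filter] at ha
      have ha2 := (uset_facts h ht ha.1).1
      refine mem_zset.2 ⟨ha2, ?_⟩
      have hle : centralizer ({t} : Set G) ≤ centralizer ({a} : Set G) := by
        have := eq_of_le_of_card_ge (dsub_le t a) ha.2.ge
        rw [← this]
        exact inf_le_right
      refine (eq_of_le_of_card_ge hle ?_).symm
      obtain ⟨g, hg⟩ := isConj_iff.1 ((hone a).1 ha2)
      rw [← hc]
      have hsub : centralizer ({a} : Set G) ≤ (centralizer ({t} : Set G)).map (MulAut.conj g).toMonoidHom := by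
        intro b hb
        refine ⟨g⁻¹ * b * g, mem_centralizer_singleton_iff.2 ?_, by show g * (g⁻¹ * b * g) * g⁻¹ = b; group⟩
        have hba := mem_centralizer_singleton_iff.1 hb
        calc g⁻¹ * b * g * t = g⁻¹ * (b * (g * t * g⁻¹)) * g := by group
          _ = g⁻¹ * (g * t * g⁻¹ * b) * g := by rw [hg, hba]
          _ = t * (g⁻¹ * b * g) := by group
      refine (Subgroup.card_le_of_le hsub).trans ?_
      rw [Nat.card_congr ((centralizer ({t} : Set G)).equivMapOfInjective _ (MulAut.conj g).injective).symm.toEquiv]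
    have hu' := hu
    rw [hUc, Finset.mem_filter] at hu'
    obtain ⟨y, hy, rfl⟩ := Finset.mem_image.1 hu'.1
    rw [mem_yset] at hy
    have h3 := h.card_zset_le ht hy.1 hy.2 hone (hz _ hu)
    have hsub : Uc ⊆ (zset t).erase t := fun a ha =>
      Finset.mem_erase.2 ⟨(uset_facts h ht (Finset.mem_filter.1 ha).1).2.2.1, hz a ha⟩
    have htz : t ∈ zset t := mem_zset.2 ⟨ht, rfl⟩
    have := Finset.card_le_card hsub
    rw [Finset.card_erase_of_mem htz] at this
    omega
  have hd : ∀ u ∈ uset t, 2 * Nat.card (dsub t u) ≤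
      c + if Nat.card (dsub t u) = c then c else 0 := by
    intro u hu
    split_ifs with he
    · omega
    · obtain ⟨j, hj⟩ := Subgroup.card_dvd_of_le (dsub_le t u)
      rw [← hc] at hj
      have h2 : 2 ≤ j := by
        rcases j with _ | _ | j
        · rw [mul_zero] at hj
          exact absurd hj Nat.card_pos.ne'
        · rw [Nat.zero_add, mul_one] at hj; exact absurd hj.symm he
        · omega
      rw [add_zero, hj, mul_comm 2]
      exact Nat.mul_le_mul_left _ h2
  have hsum := Finset.sum_le_sum hd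
  rw [← Finset.mul_sum, ← card_yset_eq_sum h ht, Finset.sum_add_distrib, Finset.sum_const,
    ← Finset.sum_filter, ← hUc, Finset.sum_const, smul_eq_mul, smul_eq_mul] at hsum
  have := card_uset_lt h ht
  refine hsum.trans ?_
  calc (uset t).card * c + Uc.card * c = c * ((uset t).card + Uc.card) := by ring
    _ ≤ c * ((mset t).card + 1) := Nat.mul_le_mul_left _ (by omega)

/-- When all pairs meet, the edges form a bijection. -/
theorem four_N_le (h : Cent3 G) {t : G} (ht : orderOf t = 2)
    (hall : ∀ u ∈ uset t, (rset u ∩ rset (t * u)).Nonempty) :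
    (∀ u ∈ uset t, (rset u ∩ rset (t * u)).card = Nat.card (dsub t u)) ∧
    ∀ (a : ℕ), (∀ u ∈ uset t, ∀ u' ∈ uset t,
        Nat.card (dsub t u) ^ 2 * Nat.card (dsub t u') ≤ Nat.card (centralizer ({t} : Set G)) ^ 2 →
        3 * a * Nat.card (dsub t u) * Nat.card (dsub t u') ≤
          Nat.card (centralizer ({t} : Set G)) * (2 * Nat.card (dsub t u') + Nat.card (dsub t u))) →
      a * (yset t).card ≤ Nat.card (centralizer ({t} : Set G)) * (uset t).card := by
  classical
  set c := Nat.card (centralizer ({t} : Set G)) with hc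
  set Φ := (uset t ×ˢ (Finset.univ : Finset G)).filter fun p => p.2 ∈ rset p.1 ∩ rset (t * p.1) with hΦ
  have hmem : ∀ p ∈ Φ, p.1 ∈ uset t ∧ orderOf p.2 = 2 ∧ orderOf (p.1 * p.2) = 3 ∧
      orderOf (t * p.1 * p.2) = 3 := by
    intro p hp
    simp only [hΦ, Finset.mem_filter, Finset.mem_product, Finset.mem_univ, and_true, Finset.mem_inter,
      mem_rset] at hp
    exact ⟨hp.1, hp.2.1.1, hp.2.1.2, hp.2.2.2⟩
  have hfib : ∀ u ∈ uset t, (Φ.filter fun p => p.1 = u).card = (rset u ∩ rset (t * u)).card := by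
    intro u hu
    refine Finset.card_bij' (fun p _ => p.2) (fun s _ => (u, s)) ?_ ?_ ?_ ?_
    · intro p hp
      simp only [hΦ, Finset.mem_filter] at hp
      rw [← hp.2]; exact hp.1.2
    · intro s hs
      simp only [hΦ, Finset.mem_filter, Finset.mem_product, Finset.mem_univ, and_true]
      exact ⟨hu, hs⟩
    · intro p hp
      exact Prod.ext (Finset.mem_filter.1 hp).2.symm rfl
    · intro s _; rfl
  have hcardΦ : Φ.card = ∑ u ∈ uset t, (rset u ∩ rset (t * u)).card := by
    rw [Finset.card_eq_sum_card_fiberwise (f := fun p : G × G => p.1) (t := uset t) fun p hp => (hmem p hp).1]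
    exact Finset.sum_congr rfl hfib
  have hY : ∀ p ∈ Φ, p.1 * p.2 ∈ yset t := by
    intro p hp
    obtain ⟨h1, -, h3, h4⟩ := hmem p hp
    refine mem_yset.2 ⟨h3, ?_⟩
    rw [orderOf_mul_comm_eq, ← mul_assoc]
    exact h4
  have hinv : ∀ p ∈ Φ, p.1 * (p.1 * p.2) * p.1 = (p.1 * p.2)⁻¹ := by
    intro p hp
    obtain ⟨h1, h2, -, -⟩ := hmem p hp
    have hp1 := (uset_facts h ht h1).1
    rw [mul_inv_rev, inv_eq_self h2, inv_eq_self hp1, ← mul_assoc, mul_self_invol hp1, one_mul]
  have hinj : Set.InjOn (fun p : G × G => p.1 * p.2) Φ := by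
    intro p hp q hq e
    simp only [Finset.mem_coe] at hp hq
    simp only at e
    have hp1 := uset_facts h ht (hmem p hp).1
    have hq1 := uset_facts h ht (hmem q hq).1
    have k1 : p.1 * q.1 * t = t * (p.1 * q.1) :=
      ((show Commute p.1 t from hp1.2.1).mul_left (show Commute q.1 t from hq1.2.1)).eq
    have k2 : p.1 * q.1 * (p.1 * p.2) = p.1 * p.2 * (p.1 * q.1) := by
      set y := p.1 * p.2 with hy
      have i1 : p.1 * y * p.1 = y⁻¹ := hinv p hp
      have i2 : q.1 * y * q.1 = y⁻¹ := by rw [e]; exact hinv q hq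
      clear_value y
      calc p.1 * q.1 * y = p.1 * (q.1 * y * q.1) * q.1 := by
            rw [mul_assoc p.1 (q.1 * y * q.1) q.1, mul_assoc (q.1 * y) q.1 q.1, mul_self_invol hq1.1, mul_one,
              mul_assoc]
        _ = p.1 * y⁻¹ * q.1 := by rw [i2]
        _ = p.1 * (p.1 * y * p.1) * q.1 := by rw [i1]
        _ = y * (p.1 * q.1) := by
          rw [show p.1 * (p.1 * y * p.1) = (p.1 * p.1) * (y * p.1) by group, mul_self_invol hp1.1, one_mul,
            mul_assoc]
    have h1 := h.eq_one_of_comm_two ht (hmem p hp).2.2.1 k1 k2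
    have h2 : p.1 = q.1 := by rw [eq_inv_of_mul_eq_one_left h1, inv_eq_self hq1.1]
    refine Prod.ext h2 ?_
    rw [h2] at e
    exact mul_left_cancel e
  have hle : Φ.card ≤ (yset t).card := Finset.card_le_card_of_injOn _ (fun p hp => hY p hp) hinj
  have hge : ∀ u ∈ uset t, Nat.card (dsub t u) ≤ (rset u ∩ rset (t * u)).card := fun u hu =>
    (two_mul_dsub_dvd h ht hu (hall u hu)).2
  have hsumge := Finset.sum_le_sum hge
  have heq : ∀ u ∈ uset t, (rset u ∩ rset (t * u)).card = Nat.card (dsub t u) := by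
    rw [hcardΦ, card_yset_eq_sum h ht] at hle
    exact fun u hu => ((Finset.sum_eq_sum_iff_of_le hge).1 (le_antisymm hsumge hle) u hu).symm
  refine ⟨heq, fun a ha => ?_⟩
  have hcardeq : Φ.card = (yset t).card := by
    rw [hcardΦ, card_yset_eq_sum h ht]; exact Finset.sum_congr rfl heq
  have himg : Φ.image (fun p => p.1 * p.2) = yset t := Finset.eq_of_subset_of_card_le
    (fun y hy => by obtain ⟨p, hp, rfl⟩ := Finset.mem_image.1 hy; exact hY p hp)
    (by rw [Finset.card_image_of_injOn hinj, hcardeq])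
  -- the weights
  let w : G → ℚ := fun u => ((Nat.card (dsub t u) : ℕ) : ℚ)⁻¹
  have hw : ∀ u : G, (Nat.card (dsub t u) : ℚ) ≠ 0 := fun u => by exact_mod_cast Nat.card_pos.ne'
  have hs1 : ∑ p ∈ Φ, w p.1 = ((uset t).card : ℚ) := by
    rw [← Finset.sum_fiberwise_of_maps_to (g := fun p : G × G => p.1) (t := uset t) (fun p hp => (hmem p hp).1)]
    rw [Finset.sum_congr rfl (g := fun _ => (1 : ℚ)) fun u hu => ?_, Finset.sum_const, nsmul_one]
    rw [Finset.sum_congr rfl (g := fun _ => w u) (fun p hp => by rw [(Finset.mem_filter.1 hp).2]),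
      Finset.sum_const, hfib u hu, heq u hu, nsmul_eq_mul]
    exact mul_inv_cancel₀ (hw u)
  have hs2 : ∑ p ∈ Φ, w (p.1 * p.2 * t * (p.1 * p.2)⁻¹) = ((uset t).card : ℚ) := by
    rw [← Finset.sum_image (f := fun y => w (y * t * y⁻¹)) hinj, himg,
      ← Finset.sum_fiberwise_of_maps_to (g := fun y => y * t * y⁻¹) (t := uset t)
        (fun y hy => Finset.mem_image_of_mem _ hy)]
    rw [Finset.sum_congr rfl (g := fun _ => (1 : ℚ)) fun u hu => ?_, Finset.sum_const, nsmul_one]
    rw [Finset.sum_congr rfl (g := fun _ => w u) (fun y hy => by rw [(Finset.mem_filter.1 hy).2]),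
      Finset.sum_const, card_fibre h ht hu, nsmul_eq_mul]
    exact mul_inv_cancel₀ (hw u)
  have hterm : ∀ p ∈ Φ, 3 * (a : ℚ) ≤ (c : ℚ) * (2 * w p.1 + w (p.1 * p.2 * t * (p.1 * p.2)⁻¹)) := by
    intro p hp
    obtain ⟨h1, -, -, -⟩ := hmem p hp
    have hy := mem_yset.1 (hY p hp)
    have hu' : p.1 * p.2 * t * (p.1 * p.2)⁻¹ ∈ uset t := Finset.mem_image_of_mem _ (hY p hp)
    have hu := uset_facts h ht h1
    have hq := ha p.1 h1 _ hu' (dsub_sq_le h ht hu.1 hu.2.1 hy.1 hy.2 (hinv p hp))
    simp only [w]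
    set d := Nat.card (dsub t p.1)
    set d' := Nat.card (dsub t (p.1 * p.2 * t * (p.1 * p.2)⁻¹))
    have hd : (0 : ℚ) < d := by exact_mod_cast (Nat.card_pos : 0 < d)
    have hd' : (0 : ℚ) < d' := by exact_mod_cast (Nat.card_pos : 0 < d')
    have hq' : (3 : ℚ) * a * d * d' ≤ c * (2 * d' + d) := by exact_mod_cast hq
    rw [show (c : ℚ) * (2 * (d : ℚ)⁻¹ + (d' : ℚ)⁻¹) = (c * (2 * d' + d)) / (d * d') by field_simp,
      le_div_iff₀ (by positivity)]
    linarith
  have hfin := Finset.sum_le_sum hterm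
  rw [Finset.sum_const, hcardeq, nsmul_eq_mul, ← Finset.mul_sum, Finset.sum_add_distrib, ← Finset.mul_sum,
    hs1, hs2] at hfin
  have : (a : ℚ) * ((yset t).card : ℚ) ≤ (c : ℚ) * ((uset t).card : ℚ) := by linarith
  exact_mod_cast this

theorem mset_le_five (h : Cent3 G) {t u : G} (ht : orderOf t = 2) (hu : u ∈ uset t)
    (hc : Nat.card (centralizer ({t} : Set G)) = 8) (hd : Nat.card (dsub t u) ≠ 8) :
    (mset t).card ≤ 5 := by
  classical
  obtain ⟨hu2, hut, -, -, -⟩ := uset_facts h ht hu
  have hone : (1 : G) ∉ mset t := fun hm => ne_one_of_order (mem_mset.1 hm).1 (by norm_num) rfl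
  set C : Finset G := Finset.univ.filter fun g => g * t = t * g with hC
  have hC8 : C.card = 8 := by
    rw [← hc, Nat.card_eq_fintype_card, Fintype.card_subtype]
    congr 1
    ext g
    simp [hC, mem_centralizer_singleton_iff]
  obtain ⟨z, hzt, hz1, hz2⟩ : ∃ z, z * t = t * z ∧ z ≠ 1 ∧ z * z ≠ 1 := by
    by_contra hcon
    have hall : ∀ z ∈ centralizer ({t} : Set G), z * z = 1 := fun z hz => by
      by_contra hz2
      exact hcon ⟨z, mem_centralizer_singleton_iff.1 hz, fun e => hz2 (by rw [e, one_mul]), hz2⟩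
    refine hd ?_
    rw [← hc]
    have hle : centralizer ({t} : Set G) ≤ dsub t u := fun z hz => by
      refine mem_dsub.2 ⟨mem_centralizer_singleton_iff.1 hz, ?_⟩
      have huC : u ∈ centralizer ({t} : Set G) := mem_centralizer_singleton_iff.2 hut
      have h3 := inv_eq_of_mul_eq_one_right (hall _ (mul_mem hz huC))
      rw [mul_inv_rev, inv_eq_self hu2, inv_eq_of_mul_eq_one_right (hall z hz)] at h3
      exact h3.symm
    rw [le_antisymm (dsub_le t u) hle]
  have hsub : insert 1 (insert z (insert z⁻¹ (mset t))) ⊆ C := by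
    intro a ha
    simp only [Finset.mem_insert, mem_mset] at ha
    simp only [hC, Finset.mem_filter, Finset.mem_univ, true_and]
    rcases ha with rfl | rfl | rfl | ha
    · rw [one_mul, mul_one]
    · exact hzt
    · exact (show Commute z t from hzt).inv_left.eq
    · exact ha.2
  have := Finset.card_le_card hsub
  rw [hC8] at this
  have hzi : z ≠ z⁻¹ := fun e => hz2 (by nth_rewrite 2 [e]; exact mul_inv_cancel z)
  have hzM : ∀ a, a = z ∨ a = z⁻¹ → a ∉ mset t := by
    rintro a (rfl | rfl) hm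
    · exact hz2 (mul_self_invol (mem_mset.1 hm).1)
    · have := mul_self_invol (mem_mset.1 hm).1
      rw [← mul_inv_rev, inv_eq_one] at this
      exact hz2 this
  rw [Finset.card_insert_of_notMem, Finset.card_insert_of_notMem, Finset.card_insert_of_notMem] at this
  · omega
  · exact hzM _ (Or.inr rfl)
  · simp only [Finset.mem_insert, not_or]; exact ⟨hzi, hzM _ (Or.inl rfl)⟩
  · simp only [Finset.mem_insert, not_or]
    exact ⟨fun e => hz1 e.symm, fun e => hz1 (inv_eq_one.1 e.symm), hone⟩

/-- The order of the group. -/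
theorem Cent3.card_simple [IsSimpleGroup G] (h : Cent3 G) (hG : ¬ IsMulCommutative G) {x : G}
    (hx : orderOf x = 3) : Nat.card G = 60 ∨ Nat.card G = 168 := by
  classical
  obtain ⟨t, hts⟩ := h.exists_inverting hG hx
  have ht := h.inverts_invol hx hts
  obtain ⟨hone, hKc, hR, f, v, hf, hv, ha, h1, h2⟩ := h.identities hG hx ht
  set c := Nat.card (centralizer ({t} : Set G)) with hc
  have hRall : ∀ a : G, orderOf a = 2 → (rset a).card = c := by
    intro a ha
    obtain ⟨g, rfl⟩ := isConj_iff.1 ((hone a).1 ha)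
    rw [card_rset_conj, hR]
  have hc0 : 0 < c := Nat.card_pos
  have hNne : (yset t).card ≠ 0 := fun e => by
    rw [e, Nat.cast_zero, mul_zero, zero_mul] at h2
    rcases mul_eq_zero.1 h2.symm with e' | e'
    · have := pow_eq_zero_iff (n := 2) two_ne_zero |>.1 e'
      omega
    · exact three_F_ne hf e'
  obtain ⟨y0, hy0⟩ := Finset.card_pos.1 (Nat.pos_of_ne_zero hNne)
  have hu0 : y0 * t * y0⁻¹ ∈ uset t := Finset.mem_image_of_mem _ hy0
  have hc4 : 4 ≤ c := Nat.le_of_dvd hc0 ((four_le_dsub h ht hu0).1.trans (Subgroup.card_dvd_of_le (dsub_le _ _)))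
  have hm1 : (mset t).card + 1 ≤ c := card_mset_lt ht
  have hN2 := two_N_le h ht hone
  rw [← hc] at hN2
  by_cases hall : ∀ u ∈ uset t, (rset u ∩ rset (t * u)).Nonempty
  · right
    obtain ⟨heq, h4⟩ := four_N_le h ht hall
    rw [← hc] at h4
    have hfacts : ∀ u ∈ uset t, 4 ∣ Nat.card (dsub t u) ∧ Nat.card (dsub t u) % 3 = 1 ∧
        2 * Nat.card (dsub t u) ∣ c := fun u hu =>
      ⟨(four_le_dsub h ht hu).1, (four_le_dsub h ht hu).2, (two_mul_dsub_dvd h ht hu (hall u hu)).1⟩
    rcases Nat.lt_or_ge c 16 with hlt | hge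
    · obtain ⟨q1, q2, q3⟩ := hfacts _ hu0
      have hc8 : c = 8 := by
        obtain ⟨i, hi⟩ := q1
        rw [hi, ← mul_assoc] at q3
        have := dvd_of_mul_right_dvd q3
        omega
      have hd4 : ∀ u ∈ uset t, Nat.card (dsub t u) = 4 := fun u hu => by
        obtain ⟨r1, r2, r3⟩ := hfacts u hu
        rw [hc8] at r3
        have := Nat.le_of_dvd (by norm_num) r3
        have := Nat.le_of_dvd Nat.card_pos r1
        omega
      have hN : (yset t).card = 4 * (uset t).card := by
        rw [card_yset_eq_sum h ht, Finset.sum_congr rfl hd4, Finset.sum_const, smul_eq_mul, mul_comm]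
      have hm5 := mset_le_five h ht hu0 hc8 (by rw [hd4 _ hu0]; norm_num)
      have := card_uset_lt h ht
      have hK : ((invs G).card : ℤ) = 21 := arith_eight (n := (uset t).card) hf
        (by rw [h1, hc8]; norm_num) (by rw [h2, hc8]; norm_num) (by rw [hc8] at ha; exact ha)
        (by exact_mod_cast hN) (by omega)
      have hK' : (invs G).card = 21 := by exact_mod_cast hK
      rw [← hKc, hK', hc8]
    · exfalso
      have h4N := h4 4 fun u hu u' hu' hq => by
        obtain ⟨r1, r2, r3⟩ := hfacts u hu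
        obtain ⟨s1, s2, s3⟩ := hfacts u' hu'
        exact pair_bound hge r1 s1 r2 s2 r3 s3 hq
      -- some four-group has a small centralizer
      obtain ⟨u, hu, hdu⟩ : ∃ u ∈ uset t, 4 * Nat.card (dsub t u) ≤ c := by
        by_contra hcon
        have hhalf : ∀ u ∈ uset t, 2 * Nat.card (dsub t u) = c := fun u hu => by
          obtain ⟨-, -, j, hj⟩ := hfacts u hu
          have hlt : c < 4 * Nat.card (dsub t u) := not_le.1 fun hle => hcon ⟨u, hu, hle⟩
          rcases j with _ | _ | j
          · rw [mul_zero] at hj; omega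
          · rw [Nat.zero_add, mul_one] at hj; exact hj.symm
          · have : 4 * Nat.card (dsub t u) ≤ c := by rw [hj]; nlinarith
            omega
        obtain ⟨s, hs⟩ := hall _ hu0
        have hs' := hs
        simp only [Finset.mem_inter, mem_rset] at hs'
        have hY : y0 * t * y0⁻¹ * s ∈ yset t := by
          refine mem_yset.2 ⟨hs'.1.2, ?_⟩
          rw [orderOf_mul_comm_eq, ← mul_assoc]
          exact hs'.2.2
        have hu2 := (uset_facts h ht hu0)
        have hinv : y0 * t * y0⁻¹ * (y0 * t * y0⁻¹ * s) * (y0 * t * y0⁻¹) = (y0 * t * y0⁻¹ * s)⁻¹ := by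
          rw [mul_inv_rev (y0 * t * y0⁻¹) s, inv_eq_self hs'.1.1, inv_eq_self hu2.1,
            ← mul_assoc (y0 * t * y0⁻¹) (y0 * t * y0⁻¹) s, mul_self_invol hu2.1, one_mul]
        have hq := dsub_sq_le h ht hu2.1 hu2.2.1 (mem_yset.1 hY).1 (mem_yset.1 hY).2 hinv
        rw [← hc] at hq
        have e1 := hhalf _ hu0
        have e2 := hhalf _ (Finset.mem_image_of_mem (fun y => y * t * y⁻¹) hY)
        generalize Nat.card (dsub t (y0 * t * y0⁻¹)) = d at e1 hq
        generalize Nat.card (dsub t (y0 * t * y0⁻¹ * s * t * (y0 * t * y0⁻¹ * s)⁻¹)) = d' at e2 hq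
        have : d' = d := by omega
        subst this
        rw [← e1] at hq hge
        nlinarith
      have hb := card_invs_ge h ht hu hRall
      rw [heq u hu, ← hc] at hb
      have hnlt := card_uset_lt h ht
      have hK : 9 * (c : ℤ) + 4 * ((mset t).card : ℤ) ≤ 4 * ((invs G).card : ℤ) := by
        have : 9 * c + 4 * (mset t).card ≤ 4 * (invs G).card := by omega
        exact_mod_cast this
      have hN : 4 * ((yset t).card : ℤ) ≤ (c : ℤ) * (((mset t).card : ℤ) - 1) := by
        have h5 : (4 : ℤ) * ((yset t).card : ℤ) ≤ (c : ℤ) * ((uset t).card : ℤ) := by exact_mod_cast h4N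
        refine h5.trans (mul_le_mul_of_nonneg_left ?_ (by positivity))
        omega
      exact arith_swapped (by exact_mod_cast hc0) hv h1 h2 hK hN
  · left
    rw [not_forall] at hall
    obtain ⟨u, hall⟩ := hall
    rw [not_forall] at hall
    obtain ⟨hu, hempty⟩ := hall
    have hb := card_invs_ge h ht hu hRall
    rw [Finset.not_nonempty_iff_eq_empty.1 hempty, Finset.card_empty, mul_zero, add_zero, ← hc] at hb
    obtain ⟨e1, e2, e3⟩ := arith_central (m := ((mset t).card : ℤ)) (by exact_mod_cast hc4) hf hv h1 h2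
      (by exact_mod_cast hb) (by exact_mod_cast hN2) (by exact_mod_cast hm1)
    rw [e2, e3, e1] at h1
    have hc' : c = 4 := by exact_mod_cast e1
    norm_num at h1
    have hK : (invs G).card = 15 := by omega
    rw [← hKc, hK, hc']

end CfsgLib.Char.SelfCentThree
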