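import Mathlib

/-!
# Groups in which elements of order three are self-centralizing
-/

set_option autoImplicit false
set_option linter.unusedSectionVars false

namespace CfsgLib.Char.SelfCentThree

open Subgroup

universe u

variable (G : Type u) [Group G]

/-- Every element of order three is self-centralizing. -/
def Cent3 : Prop := ∀ y g : G, orderOf y = 3 → g * y = y * g → g = 1 ∨ g = y ∨ g = y⁻¹

variable {G}

theorem pow_three_eq_one {y : G} (hy : orderOf y = 3) : y * y * y = 1 := by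
  rw [← pow_orderOf_eq_one y, hy, pow_succ, pow_two]

theorem inv_eq_sq {y : G} (hy : orderOf y = 3) : y⁻¹ = y * y :=
  inv_eq_of_mul_eq_one_left (pow_three_eq_one hy)

theorem orderOf_conj_eq (h g : G) : orderOf (h * g * h⁻¹) = orderOf g := by
  rw [← MulAut.conj_apply, MulEquiv.orderOf_eq]

theorem orderOf_mul_comm_eq (a b : G) : orderOf (a * b) = orderOf (b * a) := by
  rw [← orderOf_conj_eq b (a * b)]
  congr 1
  group

theorem inv_eq_self {s : G} (hs : orderOf s = 2) : s⁻¹ = s :=
  inv_eq_of_mul_eq_one_right (by rw [← pow_two, ← hs, pow_orderOf_eq_one])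

theorem mul_self_invol {s : G} (hs : orderOf s = 2) : s * s = 1 := by
  rw [← pow_two, ← hs, pow_orderOf_eq_one]

theorem ne_one_of_order {g : G} {n : ℕ} (hg : orderOf g = n) (hn : n ≠ 1) : g ≠ 1 := by
  rintro rfl
  exact hn (by rw [← hg, orderOf_one])

theorem orderOf_two {s : G} (h : s * s = 1) (h1 : s ≠ 1) : orderOf s = 2 :=
  orderOf_eq_prime (by rw [pow_two, h]) h1

theorem orderOf_three {y : G} (h : y * y * y = 1) (h1 : y ≠ 1) : orderOf y = 3 := by
  haveI : Fact (Nat.Prime 3) := ⟨Nat.prime_three⟩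
  exact orderOf_eq_prime (by rw [pow_succ, pow_two, h]) h1

theorem Cent3.no_comm (h : Cent3 G) {s y : G} (hs : orderOf s = 2) (hy : orderOf y = 3) :
    s * y ≠ y * s := by
  intro hc
  rcases h y s hy hc with e | e | e <;> rw [e] at hs
  · simp at hs
  · omega
  · rw [orderOf_inv] at hs; omega

theorem Cent3.eq_one_of_comm_two (h : Cent3 G) {t y g : G} (ht : orderOf t = 2) (hy : orderOf y = 3)
    (h1 : g * t = t * g) (h2 : g * y = y * g) : g = 1 := by
  rcases h y g hy h2 with e | e | e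
  · exact e
  · exact absurd (e ▸ h1).symm (h.no_comm ht hy)
  · refine absurd ?_ (h.no_comm ht hy)
    subst e
    calc t * y = y * (y⁻¹ * t) * y := by group
      _ = y * t := by rw [h1]; group

theorem Cent3.inverts_invol (h : Cent3 G) {s y : G} (hy : orderOf y = 3)
    (hs : s * y * s⁻¹ = y⁻¹) : orderOf s = 2 := by
  have h2 : s * s * y = y * (s * s) := by
    have e : s * y⁻¹ * s⁻¹ = y := by
      rw [show s * y⁻¹ * s⁻¹ = (s * y * s⁻¹)⁻¹ by group, hs, inv_inv]
    calc s * s * y = s * (s * y * s⁻¹) * s⁻¹ * (s * s) := by group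
      _ = y * (s * s) := by rw [hs, e]
  have hne : s ≠ 1 := by
    rintro rfl
    rw [one_mul, inv_one, mul_one] at hs
    have h1 : y ^ 2 = 1 := by
      rw [pow_two]
      nth_rewrite 1 [hs]
      rw [inv_mul_cancel]
    have := orderOf_dvd_of_pow_eq_one h1
    rw [hy] at this
    norm_num at this
  have hcy : ∀ e : G, (e = y ∨ e = y⁻¹) → s * s = e → False := by
    intro e he hee
    have h3 : s * e = e * s := by rw [← hee, mul_assoc]
    have h4 : s * y = y * s := by
      rcases he with rfl | rfl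
      · exact h3
      · calc s * y = y * (y⁻¹ * s) * y := by group
          _ = y * s := by rw [← h3]; group
    have h5 : y⁻¹ = y := by rw [← hs, h4, mul_inv_cancel_right]
    have h6 : y ^ 2 = 1 := by
      rw [pow_two]
      nth_rewrite 1 [← h5]
      rw [inv_mul_cancel]
    have := orderOf_dvd_of_pow_eq_one h6
    rw [hy] at this
    norm_num at this
  rcases h y (s * s) hy h2 with e | e | e
  · exact orderOf_two e hne
  · exact (hcy _ (Or.inl rfl) e).elim
  · exact (hcy _ (Or.inr rfl) e).elim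

section Finite

variable [Finite G]

theorem Cent3.not_nine_dvd (h : Cent3 G) {x : G} (hx : orderOf x = 3) (P : Sylow 3 G) :
    Nat.card (P : Subgroup G) = 3 := by
  haveI : Fact (Nat.Prime 3) := ⟨Nat.prime_three⟩
  obtain ⟨n, hn⟩ := IsPGroup.iff_card.1 P.2
  have h3 : 3 ∣ Nat.card (P : Subgroup G) :=
    P.dvd_card_of_dvd_card (hx ▸ orderOf_dvd_natCard x)
  haveI : Nontrivial (P : Subgroup G) := Finite.one_lt_card_iff_nontrivial.1
    (lt_of_lt_of_le (by norm_num) (Nat.le_of_dvd Nat.card_pos h3))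
  haveI := P.2.center_nontrivial
  obtain ⟨z, hz1⟩ := exists_ne (1 : center (P : Subgroup G))
  obtain ⟨m, hm⟩ := (IsPGroup.to_subgroup P.2 (center (P : Subgroup G))).exists_card_eq
  have hm0 : m ≠ 0 := fun e => by
    have := Finite.one_lt_card (α := center (P : Subgroup G))
    rw [hm, e, pow_zero] at this
    exact lt_irrefl 1 this
  obtain ⟨w, hw⟩ := exists_prime_orderOf_dvd_card' (G := center (P : Subgroup G)) 3
    (hm ▸ dvd_pow_self 3 hm0)
  have hw' : orderOf ((w : (P : Subgroup G)) : G) = 3 := by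
    rw [Subgroup.orderOf_coe, Subgroup.orderOf_coe, hw]
  have hle : (P : Subgroup G) ≤ zpowers ((w : (P : Subgroup G)) : G) := by
    intro g hg
    have hc := congrArg Subtype.val (mem_center_iff.1 w.2 ⟨g, hg⟩)
    rcases h _ g hw' hc with e | e | e <;> rw [e]
    · exact one_mem _
    · exact mem_zpowers _
    · exact inv_mem (mem_zpowers _)
  have hdvd := Subgroup.card_dvd_of_le hle
  rw [Nat.card_zpowers, hw'] at hdvd
  exact Nat.dvd_antisymm hdvd h3

theorem Cent3.conj_or_inv (h : Cent3 G) {x y : G} (hx : orderOf x = 3) (hy : orderOf y = 3) :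
    IsConj x y ∨ IsConj x⁻¹ y := by
  haveI : Fact (Nat.Prime 3) := ⟨Nat.prime_three⟩
  have hS : ∀ z : G, orderOf z = 3 → ∃ P : Sylow 3 G, (P : Subgroup G) = zpowers z := by
    intro z hz
    obtain ⟨P, hP⟩ := (IsPGroup.of_card (p := 3) (n := 1)
      (show Nat.card (zpowers z) = 3 ^ 1 by rw [Nat.card_zpowers, hz, pow_one])).exists_le_sylow
    exact ⟨P, (eq_of_le_of_card_ge hP (by rw [h.not_nine_dvd hx P, Nat.card_zpowers, hz])).symm⟩
  obtain ⟨P, hP⟩ := hS x hx
  obtain ⟨Q, hQ⟩ := hS y hy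
  obtain ⟨g, hg⟩ := MulAction.exists_smul_eq G P Q
  have hm : g * x * g⁻¹ ∈ zpowers y := by
    rw [← hQ, ← hg, Sylow.coe_subgroup_smul, hP]
    exact ⟨x, mem_zpowers x, rfl⟩
  have hgx : orderOf (g * x * g⁻¹) = 3 := by rw [orderOf_conj_eq, hx]
  obtain ⟨j, hj⟩ := mem_zpowers_iff.1 hm
  rcases h y (g * x * g⁻¹) hy (by rw [← hj]; exact ((Commute.refl y).zpow_left j).eq) with e | e | e
  · rw [e, orderOf_one] at hgx; omega
  · exact Or.inl (isConj_iff.2 ⟨g, e⟩)
  · refine Or.inr (isConj_iff.2 ⟨g, ?_⟩)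
    rw [show g * x⁻¹ * g⁻¹ = (g * x * g⁻¹)⁻¹ by group, e, inv_inv]

/-- In a non-abelian simple group some involution inverts `x`. -/
theorem Cent3.exists_inverting [IsSimpleGroup G] (h : Cent3 G) (hG : ¬ IsMulCommutative G) {x : G}
    (hx : orderOf x = 3) : ∃ s : G, s * x * s⁻¹ = x⁻¹ := by
  haveI : Fact (Nat.Prime 3) := ⟨Nat.prime_three⟩
  by_contra hc
  rw [not_exists] at hc
  obtain ⟨P, hP⟩ := (IsPGroup.of_card (p := 3) (n := 1)
    (show Nat.card (zpowers x) = 3 ^ 1 by rw [Nat.card_zpowers, hx, pow_one])).exists_le_sylow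
  have hPx : (P : Subgroup G) = zpowers x :=
    (eq_of_le_of_card_ge hP (by rw [h.not_nine_dvd hx P, Nat.card_zpowers, hx])).symm
  have hN : normalizer ((P : Subgroup G) : Set G) ≤ centralizer ((P : Subgroup G) : Set G) := by
    intro g hg
    have hm : g * x * g⁻¹ ∈ (P : Subgroup G) :=
      (Subgroup.mem_normalizer_iff.1 hg x).1 (hPx ▸ mem_zpowers x)
    rw [hPx] at hm
    obtain ⟨j, hj⟩ := mem_zpowers_iff.1 hm
    have hgx : g * x = x * g := by
      rcases h x (g * x * g⁻¹) hx (by rw [← hj]; exact ((Commute.refl x).zpow_left j).eq) with e | e | e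
      · exact absurd (conj_eq_one_iff.1 e) (ne_one_of_order hx (by norm_num))
      · exact mul_inv_eq_iff_eq_mul.1 e
      · exact absurd e (hc g)
    rw [mem_centralizer_iff]
    intro p hp
    obtain ⟨i, rfl⟩ := mem_zpowers_iff.1 (hPx ▸ hp : p ∈ zpowers x)
    exact (Commute.zpow_left (show Commute x g from hgx.symm) i).eq
  have hcomp := MonoidHom.ker_transferSylow_isComplement' P hN
  rcases IsSimpleGroup.eq_bot_or_eq_top_of_normal (MonoidHom.transferSylow P hN).ker inferInstance
    with e | e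
  · rw [e, isComplement'_bot_left] at hcomp
    refine hG ⟨⟨fun a b => ?_⟩⟩
    obtain ⟨i, rfl⟩ := mem_zpowers_iff.1 (hPx ▸ hcomp ▸ mem_top a : a ∈ zpowers x)
    obtain ⟨j, rfl⟩ := mem_zpowers_iff.1 (hPx ▸ hcomp ▸ mem_top b : b ∈ zpowers x)
    exact (Commute.zpow_zpow (Commute.refl x) i j).eq
  · rw [e, isComplement'_top_left] at hcomp
    have := h.not_nine_dvd hx P
    rw [hcomp, card_bot] at this
    omega

theorem Cent3.conj_of_simple [IsSimpleGroup G] (h : Cent3 G) (hG : ¬ IsMulCommutative G) {x y : G}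
    (hx : orderOf x = 3) (hy : orderOf y = 3) : IsConj x y := by
  obtain ⟨s, hs⟩ := h.exists_inverting hG hx
  rcases h.conj_or_inv hx hy with e | e
  · exact e
  · exact (isConj_iff.2 ⟨s, hs⟩).trans e

end Finite

end CfsgLib.Char.SelfCentThree
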