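import Cfsg.Agent.Lib.Char.SelfCentThree.Sets
import Cfsg.Agent.Lib.Char.ClassMul
import Cfsg.Agent.Lib.Char.Rational

/-!
# The counting identities from the three exceptional characters
-/

set_option autoImplicit false
set_option linter.unusedSectionVars false

namespace CfsgLib.Char.SelfCentThree

open scoped ComplexConjugate
open Cfsg CfsgLib.Char

universe u

variable {G : Type u} [Group G] [Finite G]

/-- A value at a rational element is an integer. -/
theorem exists_int_value (χ : IrrCharacter G) {g : G}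
    (hg : ∀ m : ℕ, m.Coprime (Nat.card G) → IsConj g (g ^ m)) :
    ∃ z : ℤ, (χ : G → ℂ) g = z := by
  refine exists_int_of_fixed (isCharacter_isIntegral (isCharacter_irr χ) g) fun φ => ?_
  obtain ⟨m, hm, htw⟩ := exists_char_twist (G := G) φ
  rw [htw _ (isCharacter_irr χ) g _ rfl]
  exact (classFun_isConj (isClassFunction_irr χ) (hg m hm)).symm

theorem isConj_pow_two {g : G} (hg : orderOf g = 2) (m : ℕ) (hm : m.Coprime (Nat.card G)) :
    IsConj g (g ^ m) := by
  have h2 : m % 2 = 1 := by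
    have hc : m.Coprime 2 := hm.coprime_dvd_right (hg ▸ orderOf_dvd_natCard g)
    exact Nat.odd_iff.1 (Nat.coprime_two_right.1 hc)
  rw [← pow_mod_orderOf, hg, h2, pow_one]

theorem Cent3.isConj_pow_three [IsSimpleGroup G] (h : Cent3 G) (hG : ¬ IsMulCommutative G) {x : G}
    (hx : orderOf x = 3) (m : ℕ) (hm : m.Coprime (Nat.card G)) : IsConj x (x ^ m) :=
  h.conj_of_simple hG hx ((Nat.Coprime.orderOf_pow (y := x)
    (by rw [hx]; exact (hm.coprime_dvd_right (hx ▸ orderOf_dvd_natCard x)).symm)).trans hx)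

/-- The trivial character. -/
noncomputable def oneChar (G : Type u) [Group G] : IrrCharacter G := ⟨fun _ => 1, isIrrCharacter_one⟩

/-- In a simple group only the trivial character reaches its degree away from the identity. -/
theorem ne_degree [IsSimpleGroup G] {χ : IrrCharacter G} (hχ : χ ≠ oneChar G) {g : G} (hg : g ≠ 1) :
    (χ : G → ℂ) g ≠ (χ : G → ℂ) 1 := by
  classical
  haveI := Fintype.ofFinite G
  intro he
  obtain ⟨n, ρ, hρ, hval⟩ := χ.2
  have h1 : ∀ a, (χ : G → ℂ) a = ρ.character a := fun a => (congrFun hval a).symm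
  rw [h1, h1, Representation.char_one] at he
  have hker := (char_eq_degree_iff ρ g).1 he
  rcases IsSimpleGroup.eq_bot_or_eq_top_of_normal (MonoidHom.ker ρ) inferInstance with e | e
  · exact hg (Subgroup.mem_bot.1 (e ▸ (hker : g ∈ MonoidHom.ker ρ)))
  · set d : ℕ := Module.finrank ℂ (Fin n → ℂ) with hd
    have hconst : ∀ a, (χ : G → ℂ) a = d := fun a => by
      rw [h1]
      exact (char_eq_degree_iff ρ a).2 (MonoidHom.mem_ker.1 (e ▸ Subgroup.mem_top a : a ∈ MonoidHom.ker ρ))
    have hfun : (χ : G → ℂ) = (d : ℂ) • ((oneChar G : IrrCharacter G) : G → ℂ) := by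
      ext a
      simp [hconst a, oneChar]
    have hi := classInner_irr_ne hχ
    rw [hfun, classInner_smul_left, classInner_irr_self, mul_one] at hi
    have h0 := irr_one_ne_zero χ
    rw [hconst, hi] at h0
    exact h0 rfl

/-- The class of elements of order three. -/
theorem Cent3.card_class_three [IsSimpleGroup G] (h : Cent3 G) {x : G} (hx : orderOf x = 3) :
    Nat.card (Subgroup.centralizer ({x} : Set G)) = 3 := by
  have hle : Subgroup.centralizer ({x} : Set G) = Subgroup.zpowers x := by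
    refine le_antisymm (fun g hg => ?_) (Subgroup.zpowers_le.2
      (Subgroup.mem_centralizer_singleton_iff.2 rfl))
    rcases h x g hx (Subgroup.mem_centralizer_singleton_iff.1 hg) with e | e | e <;> rw [e]
    · exact one_mem _
    · exact Subgroup.mem_zpowers x
    · exact inv_mem (Subgroup.mem_zpowers x)
  rw [hle, Nat.card_zpowers, hx]

/-- The three characters not vanishing on the elements of order three. -/
theorem Cent3.exists_three_chars [IsSimpleGroup G] (h : Cent3 G) (hG : ¬ IsMulCommutative G) {x : G}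
    (hx : orderOf x = 3) : ∃ (χ₁ χ₂ : IrrCharacter G) (f : ℕ), 4 ≤ f ∧
      χ₁ ≠ oneChar G ∧ χ₂ ≠ oneChar G ∧
      (χ₁ : G → ℂ) x = 1 ∧ (χ₂ : G → ℂ) x = -1 ∧
      (χ₁ : G → ℂ) 1 = (f : ℂ) ∧ (χ₂ : G → ℂ) 1 = (f : ℂ) + 1 ∧
      (∀ g : G, ¬ IsConj g x → (χ₂ : G → ℂ) g = 1 + (χ₁ : G → ℂ) g) ∧
      ∀ F : IrrCharacter G → ℂ, (∀ χ : IrrCharacter G, (χ : G → ℂ) x = 0 → F χ = 0) →
        ∑ᶠ χ, F χ = F (oneChar G) + F χ₁ + F χ₂ := by
  classical
  haveI := Fintype.ofFinite G
  haveI := Fintype.ofFinite (IrrCharacter G)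
  have hval : ∀ χ : IrrCharacter G, ∃ z : ℤ, (χ : G → ℂ) x = z := fun χ =>
    exists_int_value χ (h.isConj_pow_three hG hx)
  choose z hz using hval
  have hcol : ∑ χ : IrrCharacter G, (z χ) ^ 2 = 3 := by
    have := sum_irr_mul_conj (G := G) x x
    rw [if_pos (IsConj.refl x), h.card_class_three hx] at this
    simp only [hz, map_intCast] at this
    exact_mod_cast (by push_cast; simpa only [sq, Nat.cast_ofNat] using this :
      ((∑ χ : IrrCharacter G, (z χ) ^ 2 : ℤ) : ℂ) = ((3 : ℤ) : ℂ))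
  have hz1 : z (oneChar G) = 1 := by
    have := hz (oneChar G)
    simp only [oneChar] at this
    exact_mod_cast this.symm
  -- every value is at most one in absolute value
  have hsmall : ∀ χ, z χ = 0 ∨ z χ ^ 2 = 1 := by
    intro χ
    have hle := Finset.single_le_sum (f := fun χ => (z χ) ^ 2) (fun _ _ => sq_nonneg _)
      (Finset.mem_univ χ)
    rw [hcol] at hle
    have h1 : -1 ≤ z χ := by nlinarith
    have h2 : z χ ≤ 1 := by nlinarith
    interval_cases hh : z χ <;> simp
  have hcard : ((Finset.univ.filter fun χ => z χ ≠ 0).card : ℤ) = 3 := by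
    rw [← hcol, ← Finset.sum_filter_add_sum_filter_not Finset.univ (fun χ => z χ ≠ 0)
      (fun χ => (z χ) ^ 2)]
    rw [Finset.sum_congr rfl (fun χ hχ => (hsmall χ).resolve_left (Finset.mem_filter.1 hχ).2),
      Finset.sum_eq_zero (s := Finset.univ.filter fun χ => ¬ z χ ≠ 0) fun χ hχ => by
        rw [not_not.1 (Finset.mem_filter.1 hχ).2]; norm_num]
    simp
  have hmem : oneChar G ∈ Finset.univ.filter fun χ => z χ ≠ 0 := by simp [hz1]
  obtain ⟨p, q, hpq, he⟩ := Finset.card_eq_two.1 (show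
    ((Finset.univ.filter fun χ => z χ ≠ 0).erase (oneChar G)).card = 2 by
      rw [Finset.card_erase_of_mem hmem]
      omega)
  have hp : p ∈ (Finset.univ.filter fun χ => z χ ≠ 0).erase (oneChar G) := by rw [he]; simp
  have hq : q ∈ (Finset.univ.filter fun χ => z χ ≠ 0).erase (oneChar G) := by rw [he]; simp
  simp only [Finset.mem_erase, Finset.mem_filter, Finset.mem_univ, true_and] at hp hq
  have hsum : ∀ F : IrrCharacter G → ℂ, (∀ χ : IrrCharacter G, (χ : G → ℂ) x = 0 → F χ = 0) →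
      ∑ᶠ χ, F χ = F (oneChar G) + F p + F q := by
    intro F hF
    rw [finsum_eq_sum_of_fintype, ← Finset.sum_filter_of_ne (p := fun χ => z χ ≠ 0)
      fun χ _ hne h0 => hne (hF χ (by rw [hz, h0, Int.cast_zero])),
      ← Finset.add_sum_erase _ _ hmem, he, Finset.sum_pair hpq, add_assoc]
  obtain ⟨dp, hdp0, hdp⟩ := isIrrCharacter_degree p.2
  obtain ⟨dq, hdq0, hdq⟩ := isIrrCharacter_degree q.2
  have hx1 : ¬ IsConj x 1 := fun hc => ne_one_of_order hx (by norm_num) (isConj_one_left.1 hc)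
  have horth : (1 : ℤ) + z p * dp + z q * dq = 0 := by
    have h2 := sum_irr_mul_conj (G := G) x 1
    rw [if_neg hx1, ← finsum_eq_sum_of_fintype, hsum _ (fun χ hχ => by rw [hχ, zero_mul]), hz, hz, hz,
      hz1] at h2
    simp only [conj_irr_one] at h2
    rw [hdp, hdq] at h2
    simp only [oneChar] at h2
    exact_mod_cast (by push_cast; simpa using h2 :
      (((1 : ℤ) + z p * dp + z q * dq : ℤ) : ℂ) = ((0 : ℤ) : ℂ))
  have key : ∀ (p q : IrrCharacter G) (dp dq : ℕ), p ≠ oneChar G → q ≠ oneChar G →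
      0 < dp → (p : G → ℂ) 1 = dp → (q : G → ℂ) 1 = dq → z p = 1 → z q = -1 →
      (1 : ℤ) + z p * dp + z q * dq = 0 →
      (∀ F : IrrCharacter G → ℂ, (∀ χ : IrrCharacter G, (χ : G → ℂ) x = 0 → F χ = 0) →
        ∑ᶠ χ, F χ = F (oneChar G) + F p + F q) →
      ∃ (χ₁ χ₂ : IrrCharacter G) (f : ℕ), 4 ≤ f ∧
      χ₁ ≠ oneChar G ∧ χ₂ ≠ oneChar G ∧
      (χ₁ : G → ℂ) x = 1 ∧ (χ₂ : G → ℂ) x = -1 ∧
      (χ₁ : G → ℂ) 1 = (f : ℂ) ∧ (χ₂ : G → ℂ) 1 = (f : ℂ) + 1 ∧
      (∀ g : G, ¬ IsConj g x → (χ₂ : G → ℂ) g = 1 + (χ₁ : G → ℂ) g) ∧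
      ∀ F : IrrCharacter G → ℂ, (∀ χ : IrrCharacter G, (χ : G → ℂ) x = 0 → F χ = 0) →
        ∑ᶠ χ, F χ = F (oneChar G) + F χ₁ + F χ₂ := by
    intro p q dp dq hp hq hdp0 hdp hdq hzp hzq horth hsum
    rw [hzp, hzq] at horth
    have hpx : (p : G → ℂ) x = 1 := by rw [hz, hzp, Int.cast_one]
    have hqx : (q : G → ℂ) x = -1 := by rw [hz, hzq]; simp
    have hdq' : dq = dp + 1 := by omega
    refine ⟨p, q, dp, ?_, hp, hq, hpx, hqx, hdp, by rw [hdq, hdq']; push_cast; ring, ?_, hsum⟩
    · -- the degree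
      obtain ⟨m, hm⟩ := classInner_char_irr_nat (G := ↥(Subgroup.zpowers x))
        (χ := fun y => (p : G → ℂ) y) (isCharacter_comp (isCharacter_irr p) (Subgroup.zpowers x).subtype)
        (oneChar _)
      let e := finEquivZPowers (isOfFinOrder_of_finite x)
      have hX : Nat.card ↥(Subgroup.zpowers x) = 3 := by rw [Nat.card_zpowers, hx]
      rw [classInner, hX, ← e.sum_comp] at hm
      simp only [oneChar, map_one, mul_one] at hm
      have hsum3 : ∀ (n : ℕ) (hn : n = 3) (φ : Fin n → ℂ),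
          ∑ i, φ i = φ ⟨0, by omega⟩ + φ ⟨1, by omega⟩ + φ ⟨2, by omega⟩ := by
        rintro n rfl φ
        exact Fin.sum_univ_three φ
      rw [hsum3 _ hx] at hm
      simp only [e, finEquivZPowers_apply, pow_zero, pow_one] at hm
      have hsq : (p : G → ℂ) (x ^ 2) = 1 := by
        rw [pow_two, ← inv_eq_sq hx, irr_inv, hpx, map_one]
      rw [hdp, hpx, hsq] at hm
      have hm' : dp + 2 = 3 * m := by
        have : ((dp + 2 : ℕ) : ℂ) = ((3 * m : ℕ) : ℂ) := by
          push_cast
          rw [← hm]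
          push_cast
          ring
        exact_mod_cast this
      by_contra hlt
      have hd1 : dp = 1 := by omega
      -- a linear character of a simple group
      refine hG ⟨⟨fun a b => ?_⟩⟩
      by_contra hab
      obtain ⟨n, ρ, hρ, hval⟩ := p.2
      have hr : Module.finrank ℂ (Fin n → ℂ) = 1 := by
        have h1 : (p : G → ℂ) 1 = ρ.character 1 := (congrFun hval 1).symm
        rw [Representation.char_one, hdp, hd1] at h1
        exact_mod_cast h1.symm
      have hne : a * b * a⁻¹ * b⁻¹ ≠ 1 := fun e => hab (by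
        calc a * b = (a * b * a⁻¹ * b⁻¹) * (b * a) := by group
          _ = b * a := by rw [e, one_mul])
      refine ne_degree hp hne ?_
      rw [show (p : G → ℂ) (a * b * a⁻¹ * b⁻¹) = ρ.character (a * b * a⁻¹ * b⁻¹) from (congrFun hval _).symm,
        hdp, hd1, Nat.cast_one]
      have hlin : ∀ A : (Fin n → ℂ) →ₗ[ℂ] (Fin n → ℂ), ∃ w : ℂ, A = w • 1 := fun A =>
        (A.existsUnique_eq_smul_id_of_finrank_eq_one hr).exists
      obtain ⟨wa, hwa⟩ := hlin (ρ a)
      obtain ⟨wb, hwb⟩ := hlin (ρ b)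
      obtain ⟨wa', hwa'⟩ := hlin (ρ a⁻¹)
      obtain ⟨wb', hwb'⟩ := hlin (ρ b⁻¹)
      have h4 : ρ (a * b * a⁻¹ * b⁻¹) = ρ (a * a⁻¹ * (b * b⁻¹)) := by
        simp only [map_mul, hwa, hwb, hwa', hwb', smul_mul_smul_comm, one_mul, mul_one, smul_smul]
        ring_nf
      rw [Representation.character, h4, mul_inv_cancel, mul_inv_cancel, one_mul, map_one,
        LinearMap.trace_one, hr, Nat.cast_one]
    · intro g hg
      have h2 := sum_irr_mul_conj (G := G) g x
      rw [if_neg hg, ← finsum_eq_sum_of_fintype, hsum _ (fun χ hχ => by rw [hχ, map_zero, mul_zero]),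
        hpx, hqx] at h2
      simp only [oneChar, map_one, map_neg, mul_one, mul_neg] at h2
      linear_combination -h2
  have hzp := (hsmall p).resolve_left hp.2
  have hzq := (hsmall q).resolve_left hq.2
  rw [sq_eq_one_iff] at hzp hzq
  rcases hzp with e1 | e1 <;> rcases hzq with e2 | e2
  · rw [e1, e2] at horth; omega
  · exact key p q dp dq hp.1 hq.1 hdp0 hdp hdq e1 e2 horth hsum
  · exact key q p dq dp hq.1 hp.1 hdq0 hdq hdp e2 e1 (by linarith) fun F hF => by
      rw [hsum F hF]; ring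
  · rw [e1, e2] at horth; omega

end CfsgLib.Char.SelfCentThree
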