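import Cfsg.Agent.Lib.Char.SelfCentThree.Count

/-!
# The two arithmetic identities
-/

set_option autoImplicit false
set_option linter.unusedSectionVars false

namespace CfsgLib.Char.SelfCentThree

open scoped ComplexConjugate
open Cfsg CfsgLib.Char

universe u

variable {G : Type u} [Group G] [Finite G]

/-- The pairs counted by a class constant when the first factor inverts `x`. -/
theorem Cent3.classConst_invol (h : Cent3 G) {x s : G} (hx : orderOf x = 3)
    (hs : s * x * s⁻¹ = x⁻¹) {t : G} (hone : ∀ r : G, orderOf r = 2 ↔ IsConj t r) :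
    classConst t t x = 3 := by
  have hs2 := h.inverts_invol hx hs
  have hsi := inv_eq_self hs2
  have key : ∀ w : G, w ∈ Subgroup.zpowers x → orderOf (s * w) = 2 ∧ orderOf ((s * w)⁻¹ * x) = 2 := by
    intro w hw
    obtain ⟨j, rfl⟩ := Subgroup.mem_zpowers_iff.1 hw
    have hinv : ∀ i : ℤ, (s * x ^ i) * x * (s * x ^ i)⁻¹ = x⁻¹ := fun i => by
      rw [show s * x ^ i * x * (s * x ^ i)⁻¹ = s * (x ^ i * x * (x ^ i)⁻¹) * s⁻¹ by group,
        show x ^ i * x * (x ^ i)⁻¹ = x by group, hs]
    refine ⟨h.inverts_invol hx (hinv j), ?_⟩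
    rw [inv_eq_self (h.inverts_invol hx (hinv j)), show s * x ^ j * x = s * x ^ (j + 1) by
      rw [mul_assoc, ← zpow_add_one]]
    exact h.inverts_invol hx (hinv _)
  have hmem : ∀ p : G × G, (IsConj t p.1 ∧ IsConj t p.2 ∧ p.1 * p.2 = x) →
      s⁻¹ * p.1 ∈ Subgroup.zpowers x := by
    rintro ⟨p, q⟩ ⟨hp, hq, hpq⟩
    have hp2 := (hone p).2 hp
    have hq2 := (hone q).2 hq
    simp only at hpq ⊢
    have hinv : p * x * p⁻¹ = x⁻¹ := by
      rw [← hpq, mul_inv_rev, inv_eq_self hq2, inv_eq_self hp2, ← mul_assoc, mul_self_invol hp2, one_mul]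
    have hc : s⁻¹ * p * x = x * (s⁻¹ * p) := by
      calc s⁻¹ * p * x = s⁻¹ * (p * x * p⁻¹) * p := by group
        _ = s⁻¹ * (s * x * s⁻¹) * p := by rw [hinv, hs]
        _ = x * (s⁻¹ * p) := by group
    rcases h x _ hx hc with e | e | e <;> rw [e]
    · exact one_mem _
    · exact Subgroup.mem_zpowers x
    · exact inv_mem (Subgroup.mem_zpowers x)
  rw [classConst, ← hx, ← Nat.card_zpowers x]
  refine Nat.card_congr
    { toFun := fun p => ⟨s⁻¹ * p.1.1, hmem p.1 p.2⟩
      invFun := fun w => ⟨(s * w, (s * w)⁻¹ * x), (hone _).1 (key w w.2).1, (hone _).1 (key w w.2).2,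
        mul_inv_cancel_left _ _⟩
      left_inv := fun p => Subtype.ext (Prod.ext (by simp) (by
        show (s * (s⁻¹ * p.1.1))⁻¹ * x = p.1.2
        rw [mul_inv_cancel_left]
        exact inv_mul_eq_iff_eq_mul.2 p.2.2.2.symm))
      right_inv := fun w => Subtype.ext (by simp) }

theorem card_centralizer_mul_class (g : G) :
    Nat.card {y : G // IsConj g y} * Nat.card (Subgroup.centralizer ({g} : Set G)) = Nat.card G := by
  rw [card_isConj, Subgroup.index_mul_card]

section

variable [Fintype G] [DecidableEq G]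

/-- The arithmetic of a simple group with a self-centralizing element of order three. -/
theorem Cent3.identities [IsSimpleGroup G] (h : Cent3 G) (hG : ¬ IsMulCommutative G) {x : G}
    (hx : orderOf x = 3) {t : G} (ht : orderOf t = 2) :
    (∀ r : G, orderOf r = 2 ↔ IsConj t r) ∧
    (invs G).card * Nat.card (Subgroup.centralizer ({t} : Set G)) = Nat.card G ∧
    (rset t).card = Nat.card (Subgroup.centralizer ({t} : Set G)) ∧
    ∃ f v : ℤ, 4 ≤ f ∧ 1 ≤ v ∧
      2 * (f - v) ^ 2 + 2 * (f - v) + 2 ≤ (Nat.card (Subgroup.centralizer ({t} : Set G)) : ℤ) ∧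
      ((invs G).card : ℤ) * v ^ 2 =
        3 * (Nat.card (Subgroup.centralizer ({t} : Set G)) : ℤ) * (f * (f + 1)) ∧
      3 * ((yset t).card : ℤ) * v ^ 2 =
        (Nat.card (Subgroup.centralizer ({t} : Set G)) : ℤ) ^ 2 * (3 * (f * (f + 1)) - v * (2 * f + 1)) := by
  classical
  obtain ⟨χ₁, χ₂, f, hf, hne₁, hne₂, hx1, hx2, hd1, hd2, hrel, hsum⟩ := h.exists_three_chars hG hx
  have hnx : ∀ r : G, orderOf r = 2 → ¬ IsConj r x := fun r hr hc => by
    obtain ⟨c, hc⟩ := isConj_iff.1 hc
    rw [← hc, orderOf_conj_eq, hr] at hx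
    omega
  have hval : ∀ r : G, orderOf r = 2 → ∃ a : ℤ, (χ₁ : G → ℂ) r = a ∧ (χ₂ : G → ℂ) r = 1 + (a : ℂ) ∧
      (a : ℤ) < f := by
    intro r hr
    obtain ⟨a, ha⟩ := exists_int_value χ₁ (isConj_pow_two hr)
    refine ⟨a, ha, by rw [hrel r (hnx r hr), ha], ?_⟩
    have hle : |a| ≤ (f : ℤ) := by
      obtain ⟨n, ρ, hρ, hv⟩ := χ₁.2
      have h1 := norm_char_le ρ r
      rw [show ρ.character r = (χ₁ : G → ℂ) r from congrFun hv r, ha, Complex.norm_intCast] at h1
      have h2 : (Module.finrank ℂ (Fin n → ℂ) : ℂ) = (f : ℂ) := by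
        rw [← Representation.char_one ρ, ← hd1]
        exact congrFun hv 1
      have h3 : Module.finrank ℂ (Fin n → ℂ) = f := by exact_mod_cast h2
      rw [h3] at h1
      exact_mod_cast h1
    refine lt_of_le_of_ne ((le_abs_self a).trans hle) fun e => ?_
    refine ne_degree hne₁ (ne_one_of_order hr (by norm_num)) ?_
    rw [ha, hd1, e]
    simp
  have hf0 : (f : ℂ) ≠ 0 := by exact_mod_cast (by omega : f ≠ 0)
  have hf1 : (f : ℂ) + 1 ≠ 0 := by exact_mod_cast (by omega : f + 1 ≠ 0)
  have hGne : (Nat.card G : ℂ) ≠ 0 := card_ne_zero'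
  -- the pairs of conjugate involutions with product `x`
  have hform : ∀ r : G, orderOf r = 2 → ∀ a : ℤ, (χ₁ : G → ℂ) r = a → (χ₂ : G → ℂ) r = 1 + (a : ℂ) →
      (classConst r r x : ℂ) * (Nat.card G : ℂ) * ((f : ℂ) * ((f : ℂ) + 1)) =
        (Nat.card {y : G // IsConj r y} : ℂ) ^ 2 * ((f : ℂ) - a) ^ 2 := by
    intro r hr a ha hb
    rw [classConst_formula, hsum _ (fun χ hχ => by rw [hχ, map_zero, mul_zero, zero_div])]
    simp only [oneChar, ha, hb, hd1, hd2, hx1, hx2, map_one, map_neg]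
    field_simp
    ring
  obtain ⟨s, hs⟩ := h.exists_inverting hG hx
  have hs2 := h.inverts_invol hx hs
  have hone : ∀ r : G, orderOf r = 2 → IsConj s r := by
    intro r hr
    obtain ⟨a, ha, hb, hlt⟩ := hval r hr
    have hpos : classConst r r x ≠ 0 := by
      intro h0
      have := hform r hr a ha hb
      rw [h0, Nat.cast_zero, zero_mul, zero_mul] at this
      have hcl : (Nat.card {y : G // IsConj r y} : ℂ) ≠ 0 := by
        haveI : Nonempty {y : G // IsConj r y} := ⟨⟨r, IsConj.refl r⟩⟩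
        exact_mod_cast Nat.card_pos.ne'
      have hv : (f : ℂ) - a ≠ 0 := by
        rw [sub_ne_zero]
        exact_mod_cast (fun e => absurd hlt (by omega) : (f : ℤ) ≠ a)
      rcases mul_eq_zero.1 this.symm with e | e
      · exact hcl (pow_eq_zero_iff two_ne_zero |>.1 e)
      · exact hv (pow_eq_zero_iff two_ne_zero |>.1 e)
    obtain ⟨⟨⟨p, q⟩, hp, hq, hpq⟩⟩ : Nonempty {p : G × G // IsConj r p.1 ∧ IsConj r p.2 ∧ p.1 * p.2 = x} :=
      (Nat.card_pos_iff.1 (Nat.pos_of_ne_zero hpos)).1
    obtain ⟨cp, hcp⟩ := isConj_iff.1 hp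
    obtain ⟨cq, hcq⟩ := isConj_iff.1 hq
    simp only at hpq hcp hcq hp hq
    have hp2 : orderOf p = 2 := by rw [← hcp, orderOf_conj_eq, hr]
    have hq2 : orderOf q = 2 := by rw [← hcq, orderOf_conj_eq, hr]
    have hinv : p * x * p⁻¹ = x⁻¹ := by
      rw [← hpq, mul_inv_rev, inv_eq_self hq2, inv_eq_self hp2, ← mul_assoc, mul_self_invol hp2, one_mul]
    have hc : s⁻¹ * p * x = x * (s⁻¹ * p) := by
      calc s⁻¹ * p * x = s⁻¹ * (p * x * p⁻¹) * p := by group
        _ = s⁻¹ * (s * x * s⁻¹) * p := by rw [hinv, hs]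
        _ = x * (s⁻¹ * p) := by group
    refine (?_ : IsConj s p).trans hp.symm
    rcases h x _ hx hc with e | e | e
    · rw [show p = s by rw [inv_mul_eq_one] at e; exact e.symm]
    · refine isConj_iff.2 ⟨x, ?_⟩
      calc x * s * x⁻¹ = s * (s⁻¹ * x * s) * x⁻¹ := by group
        _ = s * x⁻¹ * x⁻¹ := by
          rw [inv_eq_self hs2]
          rw [inv_eq_self hs2] at hs
          rw [hs]
        _ = s * x := by rw [mul_assoc, ← mul_inv_rev, ← inv_eq_sq hx, inv_inv]
        _ = p := by rw [← e, mul_inv_cancel_left]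
    · refine isConj_iff.2 ⟨x⁻¹, ?_⟩
      calc x⁻¹ * s * x⁻¹⁻¹ = s * (s⁻¹ * x * s)⁻¹ * x := by group
        _ = s * (x * x) := by
          rw [inv_eq_self hs2]
          rw [inv_eq_self hs2] at hs
          rw [hs, inv_inv, mul_assoc]
        _ = s * x⁻¹ := by rw [inv_eq_sq hx]
        _ = p := by rw [← e, mul_inv_cancel_left]
  have hone' : ∀ r : G, orderOf r = 2 ↔ IsConj t r := fun r =>
    ⟨fun hr => (hone t ht).symm.trans (hone r hr), fun hc => by
      obtain ⟨c, rfl⟩ := isConj_iff.1 hc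
      rw [orderOf_conj_eq, ht]⟩
  have hinvs : (invs G).card = Nat.card {y : G // IsConj t y} := by
    rw [Nat.card_eq_fintype_card, Fintype.card_subtype]
    congr 1
    ext r
    simp [mem_invs, hone']
  set c := Nat.card (Subgroup.centralizer ({t} : Set G)) with hc
  have hK : (invs G).card * c = Nat.card G := by rw [hinvs, card_centralizer_mul_class]
  have hKC : ((invs G).card : ℂ) * (c : ℂ) = (Nat.card G : ℂ) := by exact_mod_cast hK
  obtain ⟨a, ha, hb, hlt⟩ := hval t ht
  -- the first identity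
  have hid1 : ((invs G).card : ℂ) * ((f : ℂ) - a) ^ 2 = 3 * (c : ℂ) * ((f : ℂ) * ((f : ℂ) + 1)) := by
    have h1 := hform t ht a ha hb
    rw [h.classConst_invol hx hs hone', ← hinvs, ← hKC] at h1
    have hK0 : ((invs G).card : ℂ) ≠ 0 := fun e => hGne (by rw [← hKC, e, zero_mul])
    refine mul_left_cancel₀ hK0 ?_
    push_cast at h1
    linear_combination -h1
  -- elements of order three
  set S3 : Finset G := Finset.univ.filter fun y => orderOf y = 3 with hS3
  have hclass3 : S3.card = Nat.card {y : G // IsConj x y} := by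
    rw [Nat.card_eq_fintype_card, Fintype.card_subtype]
    congr 1
    ext y
    simp only [hS3, Finset.mem_filter, Finset.mem_univ, true_and]
    refine ⟨fun hy => h.conj_of_simple hG hx hy, fun hc => ?_⟩
    obtain ⟨g, rfl⟩ := isConj_iff.1 hc
    rw [orderOf_conj_eq, hx]
  have h3G : S3.card * 3 = Nat.card G := by
    rw [hclass3, ← h.card_class_three hx, card_centralizer_mul_class]
  -- involution pairs
  have hR : (rset t).card = c := by
    set P := (invs G ×ˢ invs G).filter fun p => orderOf (p.1 * p.2) = 3 with hP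
    have h1 : P.card = (invs G).card * (rset t).card := by
      rw [Finset.card_eq_sum_card_fiberwise (f := Prod.fst) (t := invs G) fun p hp =>
        (Finset.mem_product.1 (Finset.mem_filter.1 hp).1).1]
      rw [Finset.sum_congr rfl (g := fun _ => (rset t).card) fun r hr => ?_, Finset.sum_const, smul_eq_mul]
      obtain ⟨g, rfl⟩ := isConj_iff.1 ((hone' r).1 (mem_invs.1 hr))
      rw [← card_rset_conj g t]
      refine Finset.card_bij' (fun p _ => p.2) (fun q _ => (g * t * g⁻¹, q)) ?_ ?_ ?_ ?_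
      · intro p hp
        simp only [hP, Finset.mem_filter, Finset.mem_product, mem_invs] at hp
        rw [mem_rset, ← hp.2]
        exact ⟨hp.1.1.2, hp.1.2⟩
      · intro q hq
        rw [mem_rset] at hq
        simp only [hP, Finset.mem_filter, Finset.mem_product, mem_invs]
        exact ⟨⟨⟨mem_invs.1 hr, hq.1⟩, hq.2⟩, trivial⟩
      · intro p hp
        simp only [Finset.mem_filter] at hp
        exact Prod.ext hp.2.symm rfl
      · intro q _; rfl
    have h2 : P.card = S3.card * 3 := by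
      rw [Finset.card_eq_sum_card_fiberwise (f := fun p : G × G => p.1 * p.2) (t := S3) fun p hp =>
        Finset.mem_filter.2 ⟨Finset.mem_univ _, (Finset.mem_filter.1 hp).2⟩]
      rw [Finset.sum_congr rfl (g := fun _ => 3) fun y hy => ?_, Finset.sum_const, smul_eq_mul]
      have hy3 : orderOf y = 3 := (Finset.mem_filter.1 hy).2
      obtain ⟨g, hg⟩ := isConj_iff.1 (h.conj_of_simple hG hx hy3)
      refine Eq.trans ?_ (h.classConst_invol hx hs hone')
      rw [← classConst_conj t t x g, hg, classConst,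
        Nat.card_eq_fintype_card, Fintype.card_subtype]
      congr 1
      ext p
      simp only [hP, Finset.mem_filter, Finset.mem_product, mem_invs, Finset.mem_univ, true_and, hone']
      constructor
      · rintro ⟨⟨⟨a1, a2⟩, -⟩, a3⟩; exact ⟨a1, a2, a3⟩
      · rintro ⟨a1, a2, a3⟩; exact ⟨⟨⟨a1, a2⟩, by rw [a3, hy3]⟩, a3⟩
    rw [h2, h3G, ← hK] at h1
    have hpos : 0 < (invs G).card := Finset.card_pos.2 ⟨t, mem_invs.2 ht⟩
    exact (Nat.eq_of_mul_eq_mul_left hpos h1).symm
  -- pairs of an element of order three and an involution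
  have hN : 3 * (invs G).card * (yset t).card = Nat.card G * classConst x t x := by
    set P := (S3 ×ˢ invs G).filter fun p => orderOf (p.1 * p.2) = 3 with hP
    have h1 : P.card = (invs G).card * (yset t).card := by
      rw [Finset.card_eq_sum_card_fiberwise (f := Prod.snd) (t := invs G) fun p hp =>
        (Finset.mem_product.1 (Finset.mem_filter.1 hp).1).2]
      rw [Finset.sum_congr rfl (g := fun _ => (yset t).card) fun r hr => ?_, Finset.sum_const, smul_eq_mul]
      obtain ⟨g, rfl⟩ := isConj_iff.1 ((hone' r).1 (mem_invs.1 hr))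
      rw [← card_yset_conj g t]
      refine Finset.card_bij' (fun p _ => p.1) (fun q _ => (q, g * t * g⁻¹)) ?_ ?_ ?_ ?_
      · intro p hp
        simp only [hP, hS3, Finset.mem_filter, Finset.mem_product, mem_invs, Finset.mem_univ, true_and] at hp
        rw [mem_yset, ← hp.2]
        exact ⟨hp.1.1.1, hp.1.2⟩
      · intro q hq
        rw [mem_yset] at hq
        simp only [hP, hS3, Finset.mem_filter, Finset.mem_product, mem_invs, Finset.mem_univ, true_and]
        exact ⟨⟨⟨hq.1, mem_invs.1 hr⟩, hq.2⟩, trivial⟩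
      · intro p hp
        simp only [Finset.mem_filter] at hp
        exact Prod.ext rfl hp.2.symm
      · intro q _; rfl
    have h2 : P.card = S3.card * classConst x t x := by
      rw [Finset.card_eq_sum_card_fiberwise (f := fun p : G × G => p.1 * p.2) (t := S3) fun p hp =>
        Finset.mem_filter.2 ⟨Finset.mem_univ _, (Finset.mem_filter.1 hp).2⟩]
      rw [Finset.sum_congr rfl (g := fun _ => classConst x t x) fun y hy => ?_, Finset.sum_const, smul_eq_mul]
      have hy3 : orderOf y = 3 := (Finset.mem_filter.1 hy).2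
      obtain ⟨g, hg⟩ := isConj_iff.1 (h.conj_of_simple hG hx hy3)
      rw [← classConst_conj x t x g, hg, classConst, Nat.card_eq_fintype_card, Fintype.card_subtype]
      congr 1
      ext p
      simp only [hP, hS3, Finset.mem_filter, Finset.mem_product, mem_invs, Finset.mem_univ, true_and, hone']
      constructor
      · rintro ⟨⟨⟨a1, a2⟩, -⟩, a3⟩; exact ⟨h.conj_of_simple hG hx a1, a2, a3⟩
      · rintro ⟨a1, a2, a3⟩
        obtain ⟨e, he⟩ := isConj_iff.1 a1
        exact ⟨⟨⟨by rw [← he, orderOf_conj_eq, hx], a2⟩, by rw [a3, hy3]⟩, a3⟩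
    rw [h1] at h2
    rw [mul_assoc, h2, ← h3G]
    ring
  refine ⟨hone', hK, hR, f, f - a, by exact_mod_cast hf, by omega, ?_, ?_, ?_⟩
  · haveI := Fintype.ofFinite (IrrCharacter G)
    have hcol := sum_irr_mul_conj (G := G) t t
    rw [if_pos (IsConj.refl t), ← hc] at hcol
    have hre : ∑ χ : IrrCharacter G, Complex.normSq ((χ : G → ℂ) t) = (c : ℝ) := by
      have : ((∑ χ : IrrCharacter G, Complex.normSq ((χ : G → ℂ) t) : ℝ) : ℂ) = ((c : ℝ) : ℂ) := by
        rw [Complex.ofReal_sum, Complex.ofReal_natCast, ← hcol]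
        exact Finset.sum_congr rfl fun χ _ => by rw [Complex.mul_conj]
      exact_mod_cast this
    have h12 : χ₁ ≠ χ₂ := fun e => by rw [e, hx2] at hx1; norm_num at hx1
    have hsub := Finset.sum_le_sum_of_subset_of_nonneg (Finset.subset_univ {oneChar G, χ₁, χ₂})
      (f := fun χ : IrrCharacter G => Complex.normSq ((χ : G → ℂ) t))
      fun χ _ _ => Complex.normSq_nonneg _
    rw [hre, Finset.sum_insert (by simp [Ne.symm hne₁, Ne.symm hne₂]), Finset.sum_pair h12, ha, hb] at hsub
    rw [show Complex.normSq ((oneChar G : G → ℂ) t) = 1 by simp [oneChar],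
      show (1 : ℂ) + (a : ℂ) = ((1 + a : ℤ) : ℂ) by push_cast; rfl,
      Complex.normSq_intCast, Complex.normSq_intCast] at hsub
    have hZ : (1 : ℤ) + (a * a + (1 + a) * (1 + a)) ≤ (c : ℤ) := by exact_mod_cast hsub
    rw [show (f : ℤ) - ((f : ℤ) - a) = a by ring]
    linarith
  · exact_mod_cast hid1
  · have hcl3 : (S3.card : ℂ) * 3 = (Nat.card G : ℂ) := by exact_mod_cast h3G
    have hNC : 3 * ((invs G).card : ℂ) * ((yset t).card : ℂ) = (Nat.card G : ℂ) * (classConst x t x : ℂ) := by
      exact_mod_cast hN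
    rw [classConst_formula, hsum _ (fun χ hχ => by rw [hχ, map_zero, mul_zero, zero_div]),
      ← hclass3, ← hinvs] at hNC
    simp only [oneChar, ha, hb, hd1, hd2, hx1, hx2, map_one, map_neg] at hNC
    field_simp at hNC
    have goalC : 3 * ((yset t).card : ℂ) * ((f : ℂ) - a) ^ 2 =
        (c : ℂ) ^ 2 * (3 * ((f : ℂ) * ((f : ℂ) + 1)) - ((f : ℂ) - a) * (2 * (f : ℂ) + 1)) := by
      have hF : (f : ℂ) * ((f : ℂ) + 1) ≠ 0 := mul_ne_zero hf0 hf1
      have hK0 : ((invs G).card : ℂ) ≠ 0 := fun e => hGne (by rw [← hKC, e, zero_mul])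
      refine mul_left_cancel₀ (mul_ne_zero hF hK0) ?_
      linear_combination ((f : ℂ) - a) ^ 2 * hNC +
        ((invs G).card : ℂ) * (((f : ℂ) + a) * ((f : ℂ) + 1) + (f : ℂ) * (1 + (a : ℂ))) *
          (((f : ℂ) - a) ^ 2 / 3 * hcl3 - ((f : ℂ) - a) ^ 2 / 3 * hKC + (c : ℂ) / 3 * hid1)
    exact_mod_cast goalC

end

end CfsgLib.Char.SelfCentThree
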