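import Cfsg.Agent.Lib.Char.SelfCentThree.Sets
import Cfsg.Agent.Lib.Char.SuborbitThree.Basic

/-!
# Four-groups normalized by an element of order three
-/

set_option autoImplicit false
set_option linter.unusedSectionVars false

namespace CfsgLib.Char.SelfCentThree

open Subgroup
open CfsgLib.Char.SuborbitThree (cj mem_cj conj_mem_cj card_cj card_sup_mul_inf_ge)

universe u

variable {G : Type u} [Group G]

/-- The common centralizer of two elements. -/
def dsub (t u : G) : Subgroup G := centralizer ({t} : Set G) ⊓ centralizer ({u} : Set G)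

theorem mem_dsub {t u g : G} : g ∈ dsub t u ↔ g * t = t * g ∧ g * u = u * g := by
  simp [dsub, mem_inf, mem_centralizer_singleton_iff]

theorem dsub_le (t u : G) : dsub t u ≤ centralizer ({t} : Set G) := inf_le_left

/-- The swapping element. -/
theorem swap_of_braid {p q s : G} (hp : orderOf p = 2) (hq : orderOf q = 2) (hpq : p * q = q * p)
    (hs : orderOf s = 2) (h1 : orderOf (p * s) = 3) (h2 : orderOf (q * s) = 3) :
    ∃ g : G, g * g = 1 ∧ g * (p * q) = p * q * g ∧ g * p * g = q := by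
  have hp1 := mul_self_invol hp
  have hq1 := mul_self_invol hq
  have hs1 := mul_self_invol hs
  have braid : ∀ r : G, r * r = 1 → orderOf (r * s) = 3 → r * s * r = s * r * s := by
    intro r hr hrs
    have e := pow_three_eq_one hrs
    have ri : r⁻¹ = r := inv_eq_of_mul_eq_one_right hr
    have si : s⁻¹ = s := inv_eq_of_mul_eq_one_right hs1
    calc r * s * r = (r * s * r) * (s * r * s) * (s⁻¹ * r⁻¹ * s⁻¹) := by group
      _ = s * r * s := by
        rw [show r * s * r * (s * r * s) = r * s * (r * s) * (r * s) by group, e, one_mul, ri, si]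
  have bp := braid p hp1 h1
  have bq := braid q hq1 h2
  refine ⟨s * (p * q) * s, ?_, ?_, ?_⟩
  · rw [show s * (p * q) * s * (s * (p * q) * s) = s * (p * q) * (s * s) * (p * q) * s by group, hs1,
      mul_one, show s * (p * q) * (p * q) * s = s * (p * (q * p) * q) * s by group, ← hpq,
      show s * (p * (p * q) * q) * s = s * ((p * p) * (q * q)) * s by group, hp1, hq1, one_mul, mul_one, hs1]
  · have key : ∀ a b : G, a * a = 1 → b * b = 1 → a * b = b * a → a * s * a = s * a * s →
        b * s * b = s * b * s → s * (a * b) * s * a * (s * (a * b) * s) = b := by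
      intro a b ha hb hab ba bb
      calc s * (a * b) * s * a * (s * (a * b) * s) = s * (a * b) * (s * a * s) * (a * b) * s := by group
        _ = s * (a * (b * a)) * s * (a * a) * b * s := by rw [← ba]; group
        _ = s * ((a * a) * b) * s * ((a * a) * b) * s := by rw [← hab]; group
        _ = s * (b * s * b) * s := by rw [ha]; group
        _ = b := by rw [bb, show s * (s * b * s) * s = (s * s) * b * (s * s) by group, hs1]; group
    have e1 := key p q hp1 hq1 hpq bp bq
    have e2 := key q p hq1 hp1 hpq.symm bq bp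
    rw [← hpq] at e2
    set g := s * (p * q) * s with hg
    have hg1 : g * g = 1 := by
      rw [hg, show s * (p * q) * s * (s * (p * q) * s) = s * (p * q) * (s * s) * (p * q) * s by group, hs1,
        mul_one, show s * (p * q) * (p * q) * s = s * (p * (q * p) * q) * s by group, ← hpq,
        show s * (p * (p * q) * q) * s = s * ((p * p) * (q * q)) * s by group, hp1, hq1, one_mul, mul_one, hs1]
    calc g * (p * q) = (g * p * g) * (g * q * g) * g := by
          rw [show g * p * g * (g * q * g) * g = g * p * (g * g) * q * (g * g) by group, hg1]; group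
      _ = p * q * g := by rw [e1, e2, ← hpq]
  · calc s * (p * q) * s * p * (s * (p * q) * s) = s * (p * q) * (s * p * s) * (p * q) * s := by group
      _ = s * (p * (q * p)) * s * (p * p) * q * s := by rw [← bp]; group
      _ = s * ((p * p) * q) * s * ((p * p) * q) * s := by rw [← hpq]; group
      _ = s * (q * s * q) * s := by rw [hp1]; group
      _ = q := by rw [bq, show s * (s * q * s) * s = (s * s) * q * (s * s) by group, hs1]; group

/-- The four-group attached to `y`. -/
theorem four_of_mem {t y : G} (ht : orderOf t = 2) (hy : orderOf y = 3) (hyt : orderOf (y * t) = 3) :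
    orderOf (y * t * y⁻¹) = 2 ∧ y⁻¹ * t * y = t * (y * t * y⁻¹) ∧
    y * t * y⁻¹ * t = t * (y * t * y⁻¹) ∧ y * (y * t * y⁻¹) * y⁻¹ = t * (y * t * y⁻¹) ∧
    y * (t * (y * t * y⁻¹)) * y⁻¹ = t := by
  have e := pow_three_eq_one hyt
  have hy3 := pow_three_eq_one hy
  have hyi := inv_eq_sq hy
  set u := y * t * y⁻¹ with hu
  set w := y⁻¹ * t * y with hw
  have hu2 : orderOf u = 2 := by rw [hu, orderOf_conj_eq, ht]
  have hw2 : orderOf w = 2 := by
    rw [hw, show y⁻¹ * t * y = y⁻¹ * t * y⁻¹⁻¹ by rw [inv_inv], orderOf_conj_eq, ht]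
  have h1 : u * w * t = 1 := by
    calc u * w * t = y * t * (y⁻¹ * y⁻¹) * t * y * t := by rw [hu, hw]; group
      _ = y * t * (y * t) * (y * t) := by
        rw [show y⁻¹ * y⁻¹ = y by rw [hyi, show y * y * (y * y) = y * y * y * y by group, hy3, one_mul]]
        group
      _ = 1 := e
  have ti := inv_eq_self ht
  have ui := inv_eq_self hu2
  have wi := inv_eq_self hw2
  have h2 : u * w = t := by rw [eq_inv_of_mul_eq_one_left h1, ti]
  have h3 : w * u = t := by
    calc w * u = w⁻¹ * u⁻¹ := by rw [wi, ui]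
      _ = (u * w)⁻¹ := (mul_inv_rev u w).symm
      _ = t := by rw [h2, ti]
  have htu : t * u = w := by
    rw [← h3, mul_assoc, mul_self_invol hu2, mul_one]
  have hut : u * t = w := by
    rw [← h2, ← mul_assoc, mul_self_invol hu2, one_mul]
  refine ⟨hu2, htu.symm, hut.trans htu.symm, ?_, ?_⟩
  · rw [htu, hw, hu, show y * (y * t * y⁻¹) * y⁻¹ = (y * y) * t * (y * y)⁻¹ by group, ← hyi, inv_inv]
  · rw [htu, hw]; group

theorem Cent3.not_comm_img (h : Cent3 G) {t y : G} (ht : orderOf t = 2) (hy : orderOf y = 3) :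
    y * t * y⁻¹ ≠ t := fun e => h.no_comm ht hy (mul_inv_eq_iff_eq_mul.1 e).symm

theorem dsub_conj {t y : G} (ht : orderOf t = 2) (hy : orderOf y = 3) (hyt : orderOf (y * t) = 3) {g : G}
    (hg : g ∈ dsub t (y * t * y⁻¹)) : y * g * y⁻¹ ∈ dsub t (y * t * y⁻¹) := by
  obtain ⟨hu2, hw, hut, h4, h5⟩ := four_of_mem ht hy hyt
  set u := y * t * y⁻¹ with hu
  clear_value u
  rw [mem_dsub] at hg ⊢
  have hgw : g * (t * u) = t * u * g := by rw [← mul_assoc, hg.1, mul_assoc, hg.2, mul_assoc]
  constructor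
  · calc y * g * y⁻¹ * t = y * g * (y⁻¹ * t * y) * y⁻¹ := by group
      _ = y * (g * (t * u)) * y⁻¹ := by rw [hw]; group
      _ = y * (t * u * g) * y⁻¹ := by rw [hgw]
      _ = y * (t * u) * y⁻¹ * (y * g * y⁻¹) := by group
      _ = t * (y * g * y⁻¹) := by rw [h5]
  · calc y * g * y⁻¹ * u = y * (g * t) * y⁻¹ := by rw [hu]; group
      _ = y * (t * g) * y⁻¹ := by rw [hg.1]
      _ = u * (y * g * y⁻¹) := by rw [hu]; group

theorem card_dsub_three [Finite G] (h : Cent3 G) {t y : G} (ht : orderOf t = 2) (hy : orderOf y = 3)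
    (hyt : orderOf (y * t) = 3) : Nat.card (dsub t (y * t * y⁻¹)) % 3 = 1 := by
  haveI : Fact (Nat.Prime 3) := ⟨Nat.prime_three⟩
  set D := dsub t (y * t * y⁻¹) with hD
  let φ : Equiv.Perm D :=
    { toFun := fun g => ⟨y * g * y⁻¹, dsub_conj ht hy hyt g.2⟩
      invFun := fun g => ⟨y * (y * g * y⁻¹) * y⁻¹, dsub_conj ht hy hyt (dsub_conj ht hy hyt g.2)⟩
      left_inv := fun g => Subtype.ext (by
        show y * (y * (y * g * y⁻¹) * y⁻¹) * y⁻¹ = g
        rw [show y * (y * (y * (g : G) * y⁻¹) * y⁻¹) * y⁻¹ = (y * y * y) * g * (y * y * y)⁻¹ by group,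
          pow_three_eq_one hy]; group)
      right_inv := fun g => Subtype.ext (by
        show y * (y * (y * g * y⁻¹) * y⁻¹) * y⁻¹ = g
        rw [show y * (y * (y * (g : G) * y⁻¹) * y⁻¹) * y⁻¹ = (y * y * y) * g * (y * y * y)⁻¹ by group,
          pow_three_eq_one hy]; group) }
  have hφ : φ ^ 3 ^ 1 = 1 := by
    ext g
    show y * (y * (y * g * y⁻¹) * y⁻¹) * y⁻¹ = g
    rw [show y * (y * (y * (g : G) * y⁻¹) * y⁻¹) * y⁻¹ = (y * y * y) * g * (y * y * y)⁻¹ by group,
      pow_three_eq_one hy]; group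
  haveI : Fintype D := Fintype.ofFinite D
  classical
  have hφ' : (show Function.End D from ⇑φ) ^ 3 ^ 1 = 1 := funext fun g => Equiv.congr_fun hφ g
  have hmod := Equiv.Perm.card_fixedPoints_modEq (f := (show Function.End D from ⇑φ)) hφ'
  rw [Nat.card_eq_fintype_card]
  have hone : Fintype.card (Function.fixedPoints φ) = 1 := by
    rw [Fintype.card_eq_one_iff]
    refine ⟨⟨1, Subtype.ext (by show y * 1 * y⁻¹ = 1; group)⟩, ?_⟩
    rintro ⟨⟨g, hg⟩, hfix⟩
    have e : y * g * y⁻¹ = g := congrArg Subtype.val hfix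
    exact Subtype.ext (Subtype.ext
      (h.eq_one_of_comm_two ht hy (mem_dsub.1 hg).1 (mul_inv_eq_iff_eq_mul.1 e).symm))
  rw [hone] at hmod
  exact hmod

theorem four_dvd_dsub [Finite G] (h : Cent3 G) {t y : G} (ht : orderOf t = 2) (hy : orderOf y = 3)
    (hyt : orderOf (y * t) = 3) : 4 ∣ Nat.card (dsub t (y * t * y⁻¹)) := by
  obtain ⟨hu2, -, hut, -, -⟩ := four_of_mem ht hy hyt
  have hne := h.not_comm_img ht hy
  set u := y * t * y⁻¹ with hu
  have htm : t ∈ dsub t u := mem_dsub.2 ⟨rfl, hut.symm⟩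
  have hum : u ∈ dsub t u := mem_dsub.2 ⟨hut, rfl⟩
  have h1 : zpowers u ⊓ zpowers t = ⊥ := by
    rw [eq_bot_iff]
    intro g hg
    rw [mem_bot]
    obtain ⟨hgu, hgt⟩ := hg
    obtain ⟨i, rfl⟩ := mem_zpowers_iff.1 hgu
    obtain ⟨j, hj⟩ := mem_zpowers_iff.1 hgt
    have two : ∀ (a : G), orderOf a = 2 → ∀ n : ℤ, a ^ n = 1 ∨ a ^ n = a := fun a ha n => by
      rw [← zpow_mod_orderOf, ha]
      rcases Int.emod_two_eq n with e | e <;> simp [e]
    rcases two u hu2 i with e | e
    · exact e
    · rcases two t ht j with e' | e'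
      · rw [← hj, e']
      · exact absurd (e.symm.trans (hj.symm.trans e')) hne
  have hcomm : ∀ (a : zpowers u) (b : zpowers t), Commute (inclusion (zpowers_le.2 hum) a)
      (inclusion (zpowers_le.2 htm) b) := by
    rintro ⟨a, ha⟩ ⟨b, hb⟩
    obtain ⟨i, rfl⟩ := mem_zpowers_iff.1 ha
    obtain ⟨j, rfl⟩ := mem_zpowers_iff.1 hb
    exact Subtype.ext (Commute.zpow_zpow (show Commute u t from hut) i j).eq
  let f : zpowers u × zpowers t →* dsub t u := MonoidHom.noncommCoprod _ _ hcomm
  have hf : Function.Injective f := by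
    rw [injective_iff_map_eq_one]
    rintro ⟨⟨a, ha⟩, ⟨b, hb⟩⟩ hab
    have hab' : a * b = 1 := congrArg Subtype.val hab
    have hat : a ∈ zpowers t := by
      rw [eq_inv_of_mul_eq_one_left hab']
      exact (zpowers t).inv_mem hb
    have : a ∈ zpowers u ⊓ zpowers t := ⟨ha, hat⟩
    rw [h1, mem_bot] at this
    subst this
    rw [one_mul] at hab'
    subst hab'
    rfl
  have := Subgroup.card_dvd_of_injective f hf
  rwa [Nat.card_prod, Nat.card_zpowers, Nat.card_zpowers, hu2, ht] at this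

/-- The key inequality between neighbouring four-groups. -/
theorem dsub_sq_le [Finite G] (h : Cent3 G) {t u y : G} (ht : orderOf t = 2) (hu : orderOf u = 2)
    (hut : u * t = t * u) (hy : orderOf y = 3) (hyt : orderOf (y * t) = 3) (hinv : u * y * u = y⁻¹) :
    Nat.card (dsub t u) ^ 2 * Nat.card (dsub t (y * t * y⁻¹)) ≤
      Nat.card (centralizer ({t} : Set G)) ^ 2 := by
  obtain ⟨-, -, -, -, -⟩ := four_of_mem ht hy hyt
  set D' := dsub t (y * t * y⁻¹) with hD'
  set E := dsub t u ⊓ D' with hE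
  have hle : cj y E ≤ D' := by
    rintro _ ⟨g, hg, rfl⟩
    exact dsub_conj ht hy hyt hg.2
  have hint : E ⊓ cj y E = ⊥ := by
    rw [eq_bot_iff]
    intro g hg
    rw [mem_bot]
    obtain ⟨hg1, hg2⟩ := hg
    have a1 := mem_dsub.1 hg1.1
    have a2 := mem_dsub.1 ((mem_cj.1 hg2).1)
    have a3 : g * (y * u * y⁻¹) = y * u * y⁻¹ * g := by
      calc g * (y * u * y⁻¹) = y * ((y⁻¹ * g * y) * u) * y⁻¹ := by group
        _ = y * u * y⁻¹ * g := by rw [a2.2]; group
    have a4 : g * (u * (y * u * y⁻¹)) = u * (y * u * y⁻¹) * g := by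
      rw [← mul_assoc, a1.2, mul_assoc, a3, ← mul_assoc]
    rw [show u * (y * u * y⁻¹) = y by
      rw [show u * (y * u * y⁻¹) = u * y * u * y⁻¹ by group, hinv, ← mul_inv_rev,
        ← inv_eq_sq hy, inv_inv]] at a4
    exact h.eq_one_of_comm_two ht hy a1.1 a4
  have h1 : Nat.card E * Nat.card E ≤ Nat.card D' := by
    have h2 := card_sup_mul_inf_ge E (cj y E)
    rw [hint, card_bot, mul_one, card_cj] at h2
    exact h2.trans (Subgroup.card_le_of_le (sup_le inf_le_right hle))
  have h3 : Nat.card (dsub t u) * Nat.card D' ≤ Nat.card (centralizer ({t} : Set G)) * Nat.card E := by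
    refine (card_sup_mul_inf_ge (dsub t u) D').trans (Nat.mul_le_mul_right _ ?_)
    exact Subgroup.card_le_of_le (sup_le (dsub_le _ _) (dsub_le _ _))
  have hpos : 0 < Nat.card D' := Nat.card_pos
  refine Nat.le_of_mul_le_mul_right ?_ hpos
  calc Nat.card (dsub t u) ^ 2 * Nat.card D' * Nat.card D'
      = (Nat.card (dsub t u) * Nat.card D') ^ 2 := by ring
    _ ≤ (Nat.card (centralizer ({t} : Set G)) * Nat.card E) ^ 2 := Nat.pow_le_pow_left h3 2
    _ = Nat.card (centralizer ({t} : Set G)) ^ 2 * (Nat.card E * Nat.card E) := by ring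
    _ ≤ _ := Nat.mul_le_mul_left _ h1

end CfsgLib.Char.SelfCentThree
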