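import Cfsg.Agent.Lib.Char.SelfCentThree.Basic

/-!
# The sets of involutions and of elements of order three attached to an involution
-/

set_option autoImplicit false
set_option linter.unusedSectionVars false

namespace CfsgLib.Char.SelfCentThree

open Subgroup

universe u

variable {G : Type u} [Group G] [Fintype G] [DecidableEq G]

/-- The involutions. -/
noncomputable def invs (G : Type u) [Group G] [Fintype G] [DecidableEq G] : Finset G :=
  Finset.univ.filter fun s => orderOf s = 2

/-- The involutions forming an element of order three with `t`. -/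
noncomputable def rset (t : G) : Finset G := Finset.univ.filter fun s => orderOf s = 2 ∧ orderOf (t * s) = 3

/-- The elements of order three forming an element of order three with `t`. -/
noncomputable def yset (t : G) : Finset G := Finset.univ.filter fun y => orderOf y = 3 ∧ orderOf (y * t) = 3

/-- The involutions commuting with `t`. -/
noncomputable def mset (t : G) : Finset G := Finset.univ.filter fun s => orderOf s = 2 ∧ s * t = t * s

theorem mem_invs {s : G} : s ∈ invs G ↔ orderOf s = 2 := by simp [invs]

theorem mem_rset {t s : G} : s ∈ rset t ↔ orderOf s = 2 ∧ orderOf (t * s) = 3 := by simp [rset]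

theorem mem_yset {t y : G} : y ∈ yset t ↔ orderOf y = 3 ∧ orderOf (y * t) = 3 := by simp [yset]

theorem mem_mset {t s : G} : s ∈ mset t ↔ orderOf s = 2 ∧ s * t = t * s := by simp [mset]

theorem card_rset_conj (h t : G) : (rset (h * t * h⁻¹)).card = (rset t).card := by
  refine Finset.card_bij' (fun s _ => h⁻¹ * s * h) (fun s _ => h * s * h⁻¹) ?_ ?_ ?_ ?_
  · intro s hs
    rw [mem_rset] at hs ⊢
    refine ⟨?_, ?_⟩
    · rw [← hs.1, ← orderOf_conj_eq h⁻¹ s, inv_inv]
    · rw [← hs.2, ← orderOf_conj_eq h⁻¹ (h * t * h⁻¹ * s)]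
      congr 1
      group
  · intro s hs
    rw [mem_rset] at hs ⊢
    refine ⟨(orderOf_conj_eq h s).trans hs.1, ?_⟩
    rw [← hs.2, ← orderOf_conj_eq h (t * s)]
    congr 1
    group
  · intro s _; group
  · intro s _; group

theorem card_yset_conj (h t : G) : (yset (h * t * h⁻¹)).card = (yset t).card := by
  refine Finset.card_bij' (fun s _ => h⁻¹ * s * h) (fun s _ => h * s * h⁻¹) ?_ ?_ ?_ ?_
  · intro s hs
    rw [mem_yset] at hs ⊢
    refine ⟨?_, ?_⟩
    · rw [← hs.1, ← orderOf_conj_eq h⁻¹ s, inv_inv]
    · rw [← hs.2, ← orderOf_conj_eq h⁻¹ (s * (h * t * h⁻¹))]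
      congr 1
      group
  · intro s hs
    rw [mem_yset] at hs ⊢
    refine ⟨(orderOf_conj_eq h s).trans hs.1, ?_⟩
    rw [← hs.2, ← orderOf_conj_eq h (s * t)]
    congr 1
    group
  · intro s _; group
  · intro s _; group

end CfsgLib.Char.SelfCentThree
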